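import Groth.Agent.UILLib.Flat
import Groth.Agent.RGFlatLib.Pres
import Mathlib.RingTheory.EssentialFiniteness

/-!
# Injectivity modulo the maximal ideal implies universal injectivity and flatness
-/

set_option autoImplicit false
set_option linter.style.haveILetI false
set_option linter.unusedSectionVars false
set_option maxHeartbeats 1000000
set_option backward.isDefEq.respectTransparency false

universe u

open MvPolynomial TensorProduct Groth.Agent.GenFree Groth.Agent.FlatLocus Groth.Agent.RGFlatLib

noncomputable section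

namespace Groth.Agent.UILLib

/-- Finitely many relations give all relations over a field. -/
theorem exists_field_generators {A : Type u} [CommRing A] {a n : ℕ}
    (K : Submodule (MvPolynomial (Fin n) A) (FreeMod A a n)) (k : Type u) [Field k] [Algebra A k] :
    ∃ K', K'.FG ∧ K' ≤ K ∧ locN k K' = locN k K := by
  classical
  obtain ⟨s, hs, hspan⟩ := (Submodule.fg_span_iff_fg_span_finset_subset
    (R := MvPolynomial (Fin n) k) (phi k '' (K : Set (FreeMod A a n)))).mp (IsNoetherian.noetherian _)
  choose! f hf hfe using fun x (hx : x ∈ s) => hs hx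
  refine ⟨Submodule.span _ (s.image f), ⟨_, rfl⟩, Submodule.span_le.mpr ?_, le_antisymm ?_ ?_⟩
  · rw [Finset.coe_image]
    rintro _ ⟨x, hx, rfl⟩
    exact hf x hx
  · refine locN_mono _ (Submodule.span_le.mpr ?_)
    rw [Finset.coe_image]
    rintro _ ⟨x, hx, rfl⟩
    exact hf x hx
  · rw [show locN k K = _ from hspan, Submodule.span_le]
    intro x hx
    rw [SetLike.mem_coe, ← hfe x hx]
    exact phi_mem _ _ (Submodule.subset_span (Finset.mem_image_of_mem f hx))

section Presented

variable {A B M N : Type u} [CommRing A] [IsLocalRing A] [CommRing B] {a n : ℕ}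
  [Algebra (MvPolynomial (Fin n) A) B] [AddCommGroup M] [Module A M] [Module.Flat A M]
  [AddCommGroup N] [Module B N] [Module A N] [Module (MvPolynomial (Fin n) A) N]
  [IsScalarTower (MvPolynomial (Fin n) A) B N] [IsScalarTower A (MvPolynomial (Fin n) A) N]
  (q : Ideal (MvPolynomial (Fin n) A)) [q.IsPrime]

/-- The statement for a module with given presentation. -/
theorem of_presentation (hq : IsLocalRing.maximalIdeal A ≤ q.comap C)
    (hTB : ∀ t ∈ q.primeCompl, IsUnit (algebraMap (MvPolynomial (Fin n) A) B t))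
    (hB : ∀ b : B, ∃ t ∈ q.primeCompl, t • b ∈ Set.range (algebraMap (MvPolynomial (Fin n) A) B))
    (q₀ : (Fin a → B) →ₗ[B] N) (hq₀ : Function.Surjective q₀) (u : N →ₗ[A] M)
    (h : Function.Injective (u.lTensor (IsLocalRing.ResidueField A))) :
    (∀ (Q : Type u) [AddCommGroup Q] [Module A Q], Function.Injective (u.rTensor Q)) ∧
      Module.FinitePresentation B N ∧ Module.Flat A N := by
  classical
  let T := q.primeCompl
  let g := genMap (R := A) (n := n) q₀
  let K := LinearMap.ker g
  have hTN : ∀ t ∈ T, IsUnit (algebraMap (MvPolynomial (Fin n) A) (Module.End (MvPolynomial (Fin n) A) N) t) :=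
    fun t ht => isUnit_end_of_isUnit (hTB t ht)
  have hsurj := genMap_surj T hB q₀ hq₀
  let k := IsLocalRing.ResidueField A
  obtain ⟨K', hfg, hle, hgen⟩ := exists_field_generators K k
  let gbar : (FreeMod A a n ⧸ K) →ₗ[MvPolynomial (Fin n) A] N := K.liftQ g le_rfl
  haveI : IsLocalizedModule T gbar := isLocalizedModule_liftQ T g hTN hsurj
  let π' : Nq K' q →ₗ[MvPolynomial (Fin n) A] N :=
    IsLocalizedModule.lift T (LocalizedModule.mkLinearMap T (FreeMod A a n ⧸ K')) (K'.liftQ g hle) fun t => hTN t.1 t.2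
  have hπ' : ∀ v : FreeMod A a n, π' (toNq K' q v) = g v := fun v =>
    IsLocalizedModule.lift_apply T _ _ (fun t => hTN t.1 t.2) (K'.mkQ v)
  have hsurj' : Function.Surjective π' := fun y => by
    obtain ⟨t, ht, v, hv⟩ := hsurj y
    refine ⟨divT K' q ⟨t, ht⟩ (toNq K' q v), ((Module.End.isUnit_iff _).mp (hTN t ht)).1 ?_⟩
    show t • π' _ = t • y
    rw [hv, ← map_smul π', smul_divT K' q ⟨t, ht⟩, hπ']
  let u' : Nq K' q →ₗ[A] M := u ∘ₗ π'.restrictScalars A
  have hu' : Function.Injective (u'.lTensor k) := by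
    rw [LinearMap.lTensor_inj_iff_rTensor_inj, injective_iff_map_eq_zero]
    intro z hz
    rw [LinearMap.rTensor_comp, LinearMap.comp_apply] at hz
    have hz' : AlgebraTensorModule.rTensor A k π' z = 0 :=
      (LinearMap.lTensor_inj_iff_rTensor_inj k u).mp h (hz.trans (map_zero _).symm)
    let gk' := AlgebraTensorModule.rTensor A k (LocalizedModule.mkLinearMap T (FreeMod A a n ⧸ K'))
    obtain ⟨⟨x, t⟩, hx⟩ := IsLocalizedModule.surj T gk' z
    obtain ⟨ξ, rfl⟩ : ∃ ξ, AlgebraTensorModule.rTensor A k K'.mkQ ξ = x :=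
      LinearMap.rTensor_surjective k (g := K'.mkQ.restrictScalars A) K'.mkQ_surjective x
    have hnat : ∀ w, AlgebraTensorModule.rTensor A k π' (gk' (AlgebraTensorModule.rTensor A k K'.mkQ w)) =
        AlgebraTensorModule.rTensor A k gbar (AlgebraTensorModule.rTensor A k K.mkQ w) := fun w => by
      induction w using TensorProduct.induction_on with
      | zero => simp
      | tmul v c => exact congrArg (· ⊗ₜ[A] c) (hπ' v)
      | add x y hx hy => simp only [map_add, hx, hy]
    have h0 : AlgebraTensorModule.rTensor A k gbar (AlgebraTensorModule.rTensor A k K.mkQ ξ) = 0 := by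
      rw [← hnat, ← hx, Submonoid.smul_def, map_smul, hz', smul_zero]
    obtain ⟨s, hs⟩ := (IsLocalizedModule.eq_zero_iff T (AlgebraTensorModule.rTensor A k gbar)).mp h0
    rw [Submonoid.smul_def, ← map_smul] at hs
    have h1 := extMap_mem_of_rTensor_mkQ k K hs
    rw [← hgen] at h1
    have h2 := congrArg gk' (rTensor_mkQ_eq_zero k K' h1)
    rw [map_zero] at h2
    have h3 : gk' (AlgebraTensorModule.rTensor A k K'.mkQ ((s : MvPolynomial (Fin n) A) • ξ)) = 0 := h2
    rw [map_smul, map_smul, ← hx, Submonoid.smul_def, smul_smul] at h3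
    exact ((Module.End.isUnit_iff _).mp (IsLocalizedModule.map_units gk' (s * t))).1
      (h3.trans (map_zero _).symm)
  obtain ⟨huniv, hflat⟩ := univInj_flat hfg hq u' hu'
  have hinj : Function.Injective π' := fun x y hxy => by
    have h1 : Function.Injective u' := fun x y hxy => by
      have h2 := huniv A (a₁ := x ⊗ₜ (1 : A)) (a₂ := y ⊗ₜ (1 : A))
        (by rw [LinearMap.rTensor_tmul, LinearMap.rTensor_tmul, hxy])
      exact (TensorProduct.rid A _).symm.injective (by simpa using h2)
    exact h1 (congrArg u hxy)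
  let e : Nq K' q ≃ₗ[A] N := LinearEquiv.ofBijective (π'.restrictScalars A) ⟨hinj, hsurj'⟩
  refine ⟨fun Q _ _ => ?_, ?_, Module.Flat.of_linearEquiv e.symm⟩
  · have h1 := huniv Q
    rw [show u' = u ∘ₗ e.toLinearMap from rfl, LinearMap.rTensor_comp, LinearMap.coe_comp] at h1
    exact (Function.Injective.of_comp_iff' _ (LinearEquiv.rTensor Q e).bijective).mp h1
  · refine finitePresentation_of_genMap T hTB hB q₀ hq₀ hfg hle fun x hx => ?_
    have h0 : toNq K' q x = 0 := hinj (by rw [hπ', LinearMap.mem_ker.mp hx, map_zero])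
    obtain ⟨s, hs⟩ := (IsLocalizedModule.eq_zero_iff T (LocalizedModule.mkLinearMap T (FreeMod A a n ⧸ K'))).mp h0
    exact ⟨s, s.2, (Submodule.Quotient.mk_eq_zero K').mp hs⟩

end Presented

/-- Injectivity modulo the maximal ideal. -/
theorem main {A B M N : Type u} [CommRing A] [CommRing B] [IsLocalRing A] [IsLocalRing B] [Algebra A B]
    [IsLocalHom (algebraMap A B)] [Algebra.EssFiniteType A B]
    [AddCommGroup M] [Module A M] [Module.Flat A M]
    [AddCommGroup N] [Module A N] [Module B N] [IsScalarTower A B N] [Module.Finite B N]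
    (u : N →ₗ[A] M) (h : Function.Injective (LinearMap.lTensor (IsLocalRing.ResidueField A) u)) :
    (∀ (Q : Type u) [AddCommGroup Q] [Module A Q], Function.Injective (LinearMap.rTensor Q u)) ∧
      Module.FinitePresentation B N ∧ Module.Flat A N := by
  classical
  obtain ⟨σ, hσ⟩ := Algebra.EssFiniteType.cond (R := A) (S := B)
  rw [Algebra.essFiniteType_cond_iff] at hσ
  let v : Fin σ.card → B := fun i => (σ.equivFin.symm i).1
  let π : MvPolynomial (Fin σ.card) A →ₐ[A] B := aeval v
  have hrange : Algebra.adjoin A (σ : Set B) = π.range := by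
    rw [← Algebra.adjoin_range_eq_range_aeval]
    congr 1
    ext b
    exact ⟨fun hb => ⟨σ.equivFin ⟨b, hb⟩, by simp [v]⟩, fun ⟨i, hi⟩ => hi ▸ (σ.equivFin.symm i).2⟩
  letI : Algebra (MvPolynomial (Fin σ.card) A) B := π.toRingHom.toAlgebra
  letI : Module (MvPolynomial (Fin σ.card) A) N := Module.compHom N π.toRingHom
  haveI : IsScalarTower (MvPolynomial (Fin σ.card) A) B N := .of_algebraMap_smul fun _ _ => rfl
  haveI : IsScalarTower A (MvPolynomial (Fin σ.card) A) N := .of_algebraMap_smul fun r m => by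
    show π (algebraMap A (MvPolynomial (Fin σ.card) A) r) • m = r • m
    rw [π.commutes, algebraMap_smul]
  let q : Ideal (MvPolynomial (Fin σ.card) A) := (IsLocalRing.maximalIdeal B).comap π.toRingHom
  obtain ⟨a, q₀, hq₀⟩ := Module.Finite.exists_fin' B N
  refine of_presentation q (fun x hx => ?_) (fun t ht => IsLocalRing.notMem_maximalIdeal.mp ht) (fun b => ?_)
    q₀ hq₀ u h
  · show π (C x) ∈ IsLocalRing.maximalIdeal B
    rw [← MvPolynomial.algebraMap_eq, π.commutes, IsLocalRing.mem_maximalIdeal, map_mem_nonunits_iff]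
    exact hx
  · obtain ⟨t, ht, htu, hbt⟩ := hσ b
    rw [hrange] at ht hbt
    obtain ⟨t, rfl⟩ := ht
    obtain ⟨y, hy⟩ := hbt
    refine ⟨t, fun h => (IsLocalRing.mem_maximalIdeal _).mp h htu, y, ?_⟩
    rw [Algebra.smul_def, mul_comm]
    exact hy

end Groth.Agent.UILLib
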