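import Groth.Agent.UILLib.Core
import Mathlib.RingTheory.Flat.TorsionFree

/-!
# Saturated pullbacks of submodules along the inclusion of a valuation ring in its fraction field
-/

set_option autoImplicit false
set_option linter.style.haveILetI false
set_option linter.unusedSectionVars false
set_option maxHeartbeats 1000000
set_option backward.isDefEq.respectTransparency false

universe u

open MvPolynomial TensorProduct Groth.Agent.GenFree Groth.Agent.FlatLocus Groth.Agent.RGFlatLib

noncomputable section

namespace Groth.Agent.UILLib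

variable {V K : Type u} [CommRing V] [IsDomain V] [ValuationRing V] [Field K] [Algebra V K]
  [IsFractionRing V K] {a n : ℕ}

variable (V) in
/-- The integral vectors of a submodule. -/
def pull (U : Submodule (MvPolynomial (Fin n) K) (FreeMod K a n)) :
    Submodule (MvPolynomial (Fin n) V) (FreeMod V a n) where
  carrier := {v | phi K v ∈ U}
  zero_mem' := by rw [Set.mem_setOf_eq, map_zero]; exact zero_mem _
  add_mem' hv hw := by rw [Set.mem_setOf_eq, map_add]; exact add_mem hv hw
  smul_mem' p v hv := by rw [Set.mem_setOf_eq, phi_smul]; exact U.smul_mem _ hv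

variable {U : Submodule (MvPolynomial (Fin n) K) (FreeMod K a n)}

theorem mem_pull {v : FreeMod V a n} : v ∈ pull V U ↔ phi K v ∈ U := Iff.rfl

theorem phi_injective {W L : Type u} [CommRing W] [CommRing L] [Algebra W L]
    (h : Function.Injective (algebraMap W L)) :
    Function.Injective (phi L : FreeMod W a n → FreeMod L a n) := fun v w hvw => ext_co fun i => by
  apply h
  rw [← co_phi, ← co_phi, hvw]

theorem satW_pull_le : satW (pull V U) ≤ pull V U := fun x hx => by
  obtain ⟨w, hw, hwx⟩ := mem_satW.mp hx
  rw [mem_pull, phi_smul, map_C] at hwx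
  have hw0 : algebraMap V K w ≠ 0 := fun h => hw (IsFractionRing.injective V K (h.trans (map_zero _).symm))
  have h := U.smul_mem (C (algebraMap V K w)⁻¹ : MvPolynomial (Fin n) K) hwx
  rw [smul_smul, ← map_mul, inv_mul_cancel₀ hw0, map_one, one_smul] at h
  exact h

/-- Vectors over a field have a common denominator. -/
theorem exists_scaled (u : FreeMod K a n) :
    ∃ c : V, c ≠ 0 ∧ ∃ v : FreeMod V a n, algebraMap V K c • u = phi K v := by
  classical
  obtain ⟨b, hb⟩ := IsLocalization.exist_integer_multiples (nonZeroDivisors V)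
    (finite_support u).toFinset (fun i => co i u)
  refine ⟨b, nonZeroDivisors.coe_ne_zero b, ?_⟩
  obtain ⟨v, hv⟩ := exists_phi_eq (A := V) (algebraMap V K b • u) fun i => by
    by_cases h0 : co i u = 0
    · exact ⟨0, by rw [map_zero, map_smul, h0, smul_zero]⟩
    · obtain ⟨x, hx⟩ := hb i ((finite_support u).mem_toFinset.mpr h0)
      exact ⟨x, by rw [hx, map_smul, smul_eq_mul, Algebra.smul_def]⟩
  exact ⟨v, hv.symm⟩

/-- Integral vectors of the extended submodule come from integral vectors. -/
theorem mem_locN_pull {W L : Type u} [CommRing W] [IsDomain W] [ValuationRing W] [Field L]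
    [Algebra V W] [Algebra W L] [IsFractionRing W L] [Algebra V L] [Algebra K L]
    [IsScalarTower V W L] [IsScalarTower V K L] {x : FreeMod W a n} (hx : phi L x ∈ locN L U) :
    x ∈ locN W (pull V U) := by
  classical
  let S := pull V U
  have hWL : Function.Injective (algebraMap W L) := IsFractionRing.injective W L
  -- some multiple of `x` is in the extended pullback
  obtain ⟨w, hw, x', hx', hwx⟩ : ∃ w : W, w ≠ 0 ∧ ∃ x' ∈ locN W S,
      algebraMap W L w • phi L x = phi L x' := by
    have h := mem_span_of_mem_locN L U hx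
    generalize phi L x = z at h ⊢
    induction h using Submodule.span_induction with
    | mem z hz =>
      obtain ⟨u, hu, rfl⟩ := hz
      obtain ⟨c, hc, v, hv⟩ := exists_scaled (V := V) u
      refine ⟨algebraMap V W c, fun h0 => hc ?_, phi W v, phi_mem W S (mem_pull.mpr ?_), ?_⟩
      · have h1 := congrArg (algebraMap W L) h0
        rw [map_zero, ← IsScalarTower.algebraMap_apply, IsScalarTower.algebraMap_apply V K L,
          map_eq_zero_iff _ (algebraMap K L).injective] at h1
        exact IsFractionRing.injective V K (h1.trans (map_zero _).symm)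
      · rw [← hv]; exact U.smul_of_tower_mem _ hu
      · rw [phi_phi, ← phi_phi (A := K) (R := L) v, ← hv, LinearMap.map_smul, ← IsScalarTower.algebraMap_apply,
          IsScalarTower.algebraMap_apply V K L, algebraMap_smul]
    | zero => exact ⟨1, one_ne_zero, 0, zero_mem _, by rw [map_zero, smul_zero]⟩
    | add z₁ z₂ _ _ h₁ h₂ =>
      obtain ⟨w₁, hw₁, x₁, hx₁, e₁⟩ := h₁
      obtain ⟨w₂, hw₂, x₂, hx₂, e₂⟩ := h₂
      refine ⟨w₁ * w₂, mul_ne_zero hw₁ hw₂, w₂ • x₁ + w₁ • x₂,
        add_mem (Submodule.smul_of_tower_mem _ _ hx₁) (Submodule.smul_of_tower_mem _ _ hx₂), ?_⟩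
      rw [map_mul, smul_add, map_add, LinearMap.map_smul, LinearMap.map_smul, ← e₁, ← e₂,
        ← algebraMap_smul L w₂, ← algebraMap_smul L w₁, smul_smul, smul_smul, mul_comm (algebraMap W L w₂)]
    | smul l z _ h =>
      obtain ⟨w, hw, x', hx', e⟩ := h
      obtain ⟨α, β, hβ, rfl⟩ := IsFractionRing.div_surjective (A := W) l
      have hβ0 : algebraMap W L β ≠ 0 := fun h0 => nonZeroDivisors.ne_zero hβ (hWL (h0.trans (map_zero _).symm))
      refine ⟨β * w, mul_ne_zero (nonZeroDivisors.ne_zero hβ) hw, α • x', Submodule.smul_of_tower_mem _ _ hx', ?_⟩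
      rw [LinearMap.map_smul, ← e, ← algebraMap_smul L α, smul_smul, smul_smul, map_mul]
      congr 1
      field_simp
  have hwx' : w • x = x' := phi_injective hWL (by
    rw [LinearMap.map_smul, ← algebraMap_smul L w, hwx])
  -- torsion-freeness
  haveI : Module.Flat V (FreeMod V a n ⧸ S) := flat_quotient_of_saturated satW_pull_le
  obtain ⟨ξ, rfl⟩ := extMap_surjective (A := V) (R := W) x
  refine extMap_mem_of_rTensor_mkQ W S ?_
  apply (TensorProduct.comm V (FreeMod V a n ⧸ S) W).injective
  apply Module.Flat.isSMulRegular_of_nonZeroDivisors (M := W ⊗[V] (FreeMod V a n ⧸ S))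
    (mem_nonZeroDivisors_of_ne_zero hw)
  show w • _ = w • _
  rw [map_zero, smul_zero]
  have hcomm : ∀ ζ : (FreeMod V a n ⧸ S) ⊗[V] W,
      w • TensorProduct.comm V _ W ζ = TensorProduct.comm V _ W (mulR _ w ζ) := fun ζ => by
    induction ζ using TensorProduct.induction_on with
    | zero => simp
    | tmul v r => simp [mulR, TensorProduct.smul_tmul']
    | add p q hp hq => simp only [map_add, smul_add, hp, hq]
  have hnat : ∀ ζ : FreeMod V a n ⊗[V] W, mulR _ w ((S.mkQ.restrictScalars V).rTensor W ζ) =
      (S.mkQ.restrictScalars V).rTensor W (mulR _ w ζ) := fun ζ => by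
    induction ζ using TensorProduct.induction_on with
    | zero => simp
    | tmul v r => rfl
    | add p q hp hq => simp only [map_add, hp, hq]
  rw [hcomm, hnat, rTensor_mkQ_eq_zero W S (z := mulR _ w ξ) (by rw [extMap_mulR, hwx']; exact hx'), map_zero]

end Groth.Agent.UILLib
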