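import Groth.Agent.UILLib.Member
import Groth.Agent.UILLib.Pull
import Mathlib.RingTheory.TensorProduct.MvPolynomial
import Mathlib.RingTheory.Flat.Stability

/-!
# Divisibility by all powers over a minimal refinement

If the vanishing statement holds for a valuation ring `V₁`, a vector which is a multiple of `c` at all
points over larger rings is, at the points over `V₁`, a multiple of `c` times every power of an element
of the maximal ideal of `V₁` invertible in all larger rings.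
-/

set_option autoImplicit false
set_option linter.style.haveILetI false
set_option linter.unusedSectionVars false
set_option maxHeartbeats 1000000
set_option backward.isDefEq.respectTransparency false

universe u

open MvPolynomial TensorProduct Groth.Agent.GenFree Groth.Agent.FlatLocus Groth.Agent.RGFlatLib

noncomputable section

namespace Groth.Agent.UILLib

variable {A : Type u} [CommRing A] {a n : ℕ} {T : Submonoid (MvPolynomial (Fin n) A)}
  {κ : Type u} [Field κ] [Algebra A κ] (P : Prob κ a n)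

/-- An element invertible in all larger rings generates an ideal with maximal radical. -/
theorem exists_dvd_pow {K : Type u} [Field K] {V₁ : ValuationSubring K} {d : K} (hd : d ∈ V₁.nonunits)
    (hd0 : d ≠ 0) (hup : ∀ V', V₁ < V' → d⁻¹ ∈ V') (z : V₁) (hz : z ∈ IsLocalRing.maximalIdeal V₁) :
    ∃ k : ℕ, (⟨d, V₁.nonunits_subset hd⟩ : V₁) ∣ z ^ k := by
  by_contra hcon
  push Not at hcon
  obtain ⟨p, hp, hdp, hdis⟩ := Ideal.exists_le_prime_disjoint
    (Ideal.span {(⟨d, V₁.nonunits_subset hd⟩ : V₁)}) (Submonoid.powers z)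
    (Set.disjoint_right.mpr (by
      rintro _ ⟨k, rfl⟩ hk
      exact hcon k (Ideal.mem_span_singleton.mp hk)))
  haveI := hp
  have hzp : z ∉ p := fun h => Set.disjoint_left.mp hdis h (Submonoid.mem_powers z)
  have hlt : V₁ < V₁.ofPrime p := by
    refine lt_of_le_of_ne (V₁.le_ofPrime p) fun heq => hzp ?_
    have h1 := V₁.idealOfLE_ofPrime p
    rw [← h1]
    have h2 : V₁.idealOfLE (V₁.ofPrime p) (V₁.le_ofPrime p) = V₁.idealOfLE V₁ le_rfl := by congr 1; exact heq.symm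
    rw [h2, ValuationSubring.idealOfLE_self]
    exact hz
  have h3 : d ∈ (V₁.ofPrime p).nonunits := by
    have h4 : (⟨d, V₁.nonunits_subset hd⟩ : V₁) ∈ V₁.idealOfLE (V₁.ofPrime p) (V₁.le_ofPrime p) := by
      rw [V₁.idealOfLE_ofPrime p]; exact hdp (Ideal.mem_span_singleton_self _)
    exact ValuationSubring.coe_mem_nonunits_iff.mpr h4
  rcases (ValuationSubring.mem_nonunits_iff_or _).mp h3 with h | h
  · exact hd0 h
  · exact h (hup _ hlt)

/-- Vanishing modulo a scalar, with integral vectors. -/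
theorem exists_of_mem_sup_span {V : ValuationSubring P.K} {D : V} {v : FreeMod V a n}
    (hv : v ∈ pull V P.U ⊔ cf (Ideal.span {D})) :
    ∃ h : FreeMod P.K a n, VecIn V h ∧ phi P.K v - (D : P.K) • h ∈ P.U := by
  obtain ⟨x, hx, w, hw, rfl⟩ := Submodule.mem_sup.mp hv
  rcases eq_or_ne (D : P.K) 0 with hD | hD
  · refine ⟨0, fun i => (polyIn V).zero_mem, ?_⟩
    have hw0 : w = 0 := ext_co fun i => by
      obtain ⟨r, hr⟩ := Ideal.mem_span_singleton.mp (mem_cf.mp hw i)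
      rw [map_zero, hr, show D = 0 from Subtype.ext hD, zero_mul]
    rw [hw0, add_zero, smul_zero, sub_zero]
    exact hx
  refine ⟨(D : P.K)⁻¹ • phi P.K w, fun i => mem_polyIn.mpr fun e => ?_, ?_⟩
  · rw [Pi.smul_apply, coeff_smul, show coeff e ((phi P.K w) i) = co (i, e) (phi P.K w) from rfl, co_phi]
    obtain ⟨r, hr⟩ := Ideal.mem_span_singleton.mp (mem_cf.mp hw (i, e))
    rw [hr, map_mul, smul_eq_mul, show algebraMap V P.K D = (D : P.K) from rfl, ← mul_assoc, inv_mul_cancel₀ hD,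
      one_mul]
    exact r.2
  · rw [smul_smul, mul_inv_cancel₀ hD, one_smul, map_add, add_sub_cancel_right]
    exact hx

variable {V₁ : ValuationSubring P.K}

/-- The map on residue fields induced at a point. -/
def resMap (m : Mem T κ) (hm : m.comap P.ι = V₁) :
    IsLocalRing.ResidueField V₁ →+* IsLocalRing.ResidueField m.V :=
  Ideal.Quotient.lift _
    ((IsLocalRing.residue m.V).comp (((m.σ P.ι).comp V₁.subtype).codRestrict m.V.toSubring fun x => by
      have h : (x : P.K) ∈ m.comap P.ι := by rw [hm]; exact x.2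
      exact h))
    fun x hx => by
      refine Ideal.Quotient.eq_zero_iff_mem.mpr (ValuationSubring.coe_mem_nonunits_iff.mp ?_)
      have h : (x : P.K) ∈ (m.comap P.ι).nonunits := by rw [hm]; exact ValuationSubring.coe_mem_nonunits_iff.mpr hx
      exact (m.mem_nonunits_comap P.ι).mp h

/-- The point of the closed fibre. -/
def ptIdeal (m : Mem T κ) (hm : m.comap P.ι = V₁) : Ideal (MvPolynomial (Fin n) (IsLocalRing.ResidueField V₁)) :=
  RingHom.ker (eval₂Hom (resMap P m hm) fun i => IsLocalRing.residue m.V ⟨m.pt i, m.pt_mem i⟩)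

instance (m : Mem T κ) (hm : m.comap P.ι = V₁) : (ptIdeal P m hm).IsPrime := RingHom.ker_isPrime _

theorem mem_ptIdeal (m : Mem T κ) (hm : m.comap P.ι = V₁) (p : MvPolynomial (Fin n) V₁) :
    MvPolynomial.map (algebraMap V₁ (IsLocalRing.ResidueField V₁)) p ∈ ptIdeal P m hm ↔
      m.ev P.ι (MvPolynomial.map V₁.subtype p) ∈ m.V.nonunits := by
  let θ : MvPolynomial (Fin n) V₁ →+* m.V :=
    eval₂Hom (((m.σ P.ι).comp V₁.subtype).codRestrict m.V.toSubring fun x => by
      have h : (x : P.K) ∈ m.comap P.ι := by rw [hm]; exact x.2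
      exact h) fun i => ⟨m.pt i, m.pt_mem i⟩
  have h1 : ∀ p, eval₂Hom (resMap P m hm) (fun i => IsLocalRing.residue m.V ⟨m.pt i, m.pt_mem i⟩)
      (MvPolynomial.map (algebraMap V₁ (IsLocalRing.ResidueField V₁)) p) = IsLocalRing.residue m.V (θ p) := by
    intro p
    refine DFunLike.congr_fun (MvPolynomial.ringHom_ext (f := (eval₂Hom (resMap P m hm) fun i =>
      IsLocalRing.residue m.V ⟨m.pt i, m.pt_mem i⟩).comp (MvPolynomial.map (algebraMap V₁ _)))
      (g := (IsLocalRing.residue m.V).comp θ) (fun v => ?_) fun i => ?_) p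
    · simp only [θ, RingHom.comp_apply, map_C, eval₂Hom_C]
      rfl
    · simp only [θ, RingHom.comp_apply, map_X, eval₂Hom_X']
  have h2 : ∀ p, (θ p : m.L) = m.ev P.ι (MvPolynomial.map V₁.subtype p) := by
    intro p
    refine DFunLike.congr_fun (MvPolynomial.ringHom_ext (f := m.V.subtype.comp θ)
      (g := (m.ev P.ι).comp (MvPolynomial.map V₁.subtype)) (fun v => ?_) fun i => ?_) p
    · simp only [θ, RingHom.comp_apply, map_C, eval₂Hom_C, Mem.ev]
      rfl
    · simp only [θ, RingHom.comp_apply, map_X, eval₂Hom_X', Mem.ev]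
      rfl
  rw [ptIdeal, RingHom.mem_ker, h1, ← h2, ValuationSubring.coe_mem_nonunits_iff]
  exact Ideal.Quotient.eq_zero_iff_mem

/-- Base change of polynomial rings along a flat map. -/
theorem flat_mvPolynomial (R S : Type u) [CommRing R] [CommRing S] [Algebra R S] [Module.Flat R S] :
    @Module.Flat (MvPolynomial (Fin n) R) (MvPolynomial (Fin n) S) _ _
      (MvPolynomial.algebraMvPolynomial.toModule) := by
  letI : Algebra (MvPolynomial (Fin n) R) (MvPolynomial (Fin n) S) := MvPolynomial.algebraMvPolynomial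
  exact Module.Flat.isBaseChange (R := R) (S := MvPolynomial (Fin n) R) (M := S) (MvPolynomial (Fin n) S)
    (Algebra.IsPushout.out (R := R) (S := MvPolynomial (Fin n) R) (R' := S) (S' := MvPolynomial (Fin n) S))

/-- Comparing two divisibilities. -/
theorem scaled_sub {R K F : Type*} [CommRing R] [Field K] [AddCommGroup F] [Module R F] [Module K F]
    [SMulCommClass K R F] [SMul K R] [IsScalarTower K R F] {U : Submodule R F} {c₀ c'' : K} (hc'' : c'' ≠ 0)
    {p s'' : R} {f g g' : F} (h : p • f - c₀ • g' ∈ U) (h'' : s'' • f - c'' • g ∈ U) :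
    p • g - (c''⁻¹ * c₀) • s'' • g' ∈ U := by
  have h1 := Submodule.smul_of_tower_mem U c''⁻¹ (sub_mem (U.smul_mem s'' h) (U.smul_mem p h''))
  have e : c''⁻¹ • (s'' • (p • f - c₀ • g') - p • (s'' • f - c'' • g)) = p • g - (c''⁻¹ * c₀) • s'' • g' := by
    rw [smul_sub s'', smul_sub p, smul_comm s'' p f, ← smul_comm c₀ s'' g', ← smul_comm c'' p g,
      show p • s'' • f - c₀ • s'' • g' - (p • s'' • f - c'' • p • g) = c'' • p • g - c₀ • s'' • g' by abel,
      smul_sub, smul_smul, smul_smul, inv_mul_cancel₀ hc'', one_smul]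
  rwa [e] at h1

variable {c d : P.K}

/-- The vector is a multiple of `c` up to a power of `d`. -/
theorem exists_div_pow (hd : d ∈ V₁.nonunits) (hd0 : d ≠ 0)
    (hInt : ∀ m : Mem T κ, V₁ < m.comap P.ι → P.Div m c) (m : Mem T κ) (hm : m.comap P.ι = V₁) :
    ∃ N : ℕ, ∃ (s : MvPolynomial (Fin n) P.K) (g : FreeMod P.K a n), s ∈ polyIn V₁ ∧
      m.ev P.ι s ∉ m.V.nonunits ∧ VecIn V₁ g ∧ s • P.f - (c / d ^ N) • g ∈ P.U := by
  classical
  have hdV : d ∈ V₁ := V₁.nonunits_subset hd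
  let bI : Ideal (MvPolynomial (Fin n) V₁) :=
    { carrier := {p | ∃ N : ℕ, ∃ g : FreeMod P.K a n, VecIn V₁ g ∧
        MvPolynomial.map V₁.subtype p • P.f - (c / d ^ N) • g ∈ P.U}
      zero_mem' := ⟨0, 0, fun i => (polyIn V₁).zero_mem, by simp⟩
      add_mem' := by
        rintro p p' ⟨N, g, hg, h⟩ ⟨N', g', hg', h'⟩
        refine ⟨N + N', d ^ N' • g + d ^ N • g', (hg.smul_scalar (pow_mem hdV _)).add (hg'.smul_scalar (pow_mem hdV _)), ?_⟩
        have e1 : (c / d ^ (N + N')) • (d ^ N' • g + d ^ N • g') = (c / d ^ N) • g + (c / d ^ N') • g' := by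
          rw [smul_add, smul_smul, smul_smul]
          congr 2 <;> rw [pow_add] <;> field_simp
        rw [map_add, add_smul, e1, add_sub_add_comm]
        exact add_mem h h'
      smul_mem' := by
        rintro r p ⟨N, g, hg, h⟩
        refine ⟨N, MvPolynomial.map V₁.subtype r • g, VecIn.smul ⟨r, rfl⟩ hg, ?_⟩
        rw [smul_eq_mul, map_mul, mul_smul, smul_comm (c / d ^ N), ← smul_sub]
        exact P.U.smul_mem _ h }
  by_contra hcon
  push Not at hcon
  have hbad : ∀ p ∈ bI, m.ev P.ι (MvPolynomial.map V₁.subtype p) ∈ m.V.nonunits := by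
    rintro p ⟨N, g, hg, h⟩
    by_contra hu
    exact hcon N _ g ⟨p, rfl⟩ hu hg h
  let Qm := (ptIdeal P m hm).comap (MvPolynomial.map (σ := Fin n) (algebraMap V₁ (IsLocalRing.ResidueField V₁)))
  let dd : V₁ := ⟨d, hdV⟩
  obtain ⟨Q₁, hQ₁, hbQ₁, hdis⟩ := Ideal.exists_le_prime_disjoint bI
    (Qm.primeCompl ⊔ Submonoid.powers (C dd))
    (Set.disjoint_right.mpr (by
      intro x hx hxb
      obtain ⟨p, hp, _, ⟨N, rfl⟩, rfl⟩ := Submonoid.mem_sup.mp hx
      obtain ⟨M, g, hg, h⟩ := hxb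
      refine hp ((mem_ptIdeal P m hm p).mpr (hbad p ⟨M + N, g, hg, ?_⟩))
      have e1 : MvPolynomial.map V₁.subtype (p * C dd ^ N) =
          C (d ^ N) * MvPolynomial.map V₁.subtype p := by
        rw [map_mul, map_pow, map_C, ← map_pow, mul_comm]; rfl
      rw [e1, mul_smul, ← MvPolynomial.algebraMap_eq, algebraMap_smul] at h
      have h2 := Submodule.smul_of_tower_mem P.U (d ^ N)⁻¹ h
      rw [smul_sub, smul_smul, smul_smul, inv_mul_cancel₀ (pow_ne_zero _ hd0), one_smul] at h2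
      rwa [show c / d ^ (M + N) = (d ^ N)⁻¹ * (c / d ^ M) by rw [pow_add]; field_simp]))
  haveI := hQ₁
  -- lift the prime to the valuation ring of the point
  let ρ : V₁ →+* m.V := ((m.σ P.ι).comp V₁.subtype).codRestrict m.V.toSubring fun x => by
    have h : (x : P.K) ∈ m.comap P.ι := by rw [hm]; exact x.2
    exact h
  letI : Algebra V₁ m.V := ρ.toAlgebra
  haveI : Module.Flat V₁ m.V := by
    rw [Module.Flat.flat_iff_torsion_eq_bot_of_isBezout, eq_bot_iff]
    rintro x ⟨⟨w, hw⟩, hwx⟩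
    rw [Submonoid.smul_def, Algebra.smul_def, mul_eq_zero] at hwx
    refine (Submodule.mem_bot _).mpr (hwx.resolve_left fun h0 => nonZeroDivisors.ne_zero hw ?_)
    have h1 : m.σ P.ι (w : P.K) = 0 := congrArg Subtype.val h0
    exact Subtype.ext ((map_eq_zero (m.σ P.ι)).mp h1)
  letI : Algebra (MvPolynomial (Fin n) V₁) (MvPolynomial (Fin n) m.V) := MvPolynomial.algebraMvPolynomial
  haveI : Module.Flat (MvPolynomial (Fin n) V₁) (MvPolynomial (Fin n) m.V) := flat_mvPolynomial V₁ m.V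
  let Qh : Ideal (MvPolynomial (Fin n) m.V) :=
    RingHom.ker ((IsLocalRing.residue m.V).comp (MvPolynomial.eval fun i => (⟨m.pt i, m.pt_mem i⟩ : m.V)))
  haveI : Qh.IsPrime := RingHom.ker_isPrime _
  have hQh : ∀ p : MvPolynomial (Fin n) m.V, p ∈ Qh ↔
      eval₂ m.V.subtype m.pt p ∈ m.V.nonunits := by
    intro p
    have h2 : ((MvPolynomial.eval (fun i => (⟨m.pt i, m.pt_mem i⟩ : m.V)) p : m.V) : m.L) = eval₂ m.V.subtype m.pt p :=
      MvPolynomial.eval₂_comp m.V.subtype (fun i => (⟨m.pt i, m.pt_mem i⟩ : m.V)) p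
    rw [RingHom.mem_ker, RingHom.comp_apply, ← h2, ValuationSubring.coe_mem_nonunits_iff]
    exact Ideal.Quotient.eq_zero_iff_mem
  have hρmap : ∀ p : MvPolynomial (Fin n) V₁,
      MvPolynomial.map m.V.subtype (algebraMap (MvPolynomial (Fin n) V₁) (MvPolynomial (Fin n) m.V) p) =
        MvPolynomial.map (m.σ P.ι) (MvPolynomial.map V₁.subtype p) := by
    intro p
    show MvPolynomial.map m.V.subtype (MvPolynomial.map ρ p) = _
    rw [MvPolynomial.map_map, MvPolynomial.map_map]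
    rfl
  have hev : ∀ p : MvPolynomial (Fin n) V₁,
      eval₂ m.V.subtype m.pt (algebraMap (MvPolynomial (Fin n) V₁) (MvPolynomial (Fin n) m.V) p) =
        m.ev P.ι (MvPolynomial.map V₁.subtype p) := by
    intro p
    show eval₂ m.V.subtype m.pt (MvPolynomial.map ρ p) = eval₂ (m.σ P.ι) m.pt (MvPolynomial.map V₁.subtype p)
    rw [eval₂_map, eval₂_map]
    rfl
  haveI : Algebra.HasGoingDown (MvPolynomial (Fin n) V₁) (MvPolynomial (Fin n) m.V) :=
    Algebra.HasGoingDown.of_flat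
  obtain ⟨Q', hQ'le, hQ'prime, hover⟩ := Ideal.exists_ideal_le_liesOver_of_le (p := Q₁)
    (q := Qh.under (MvPolynomial (Fin n) V₁)) Qh (fun x hx => by
      show algebraMap _ (MvPolynomial (Fin n) m.V) x ∈ Qh
      rw [hQh, hev]
      by_contra hu
      exact Set.disjoint_left.mp hdis hx
        (Submonoid.mem_sup_left fun hx' => hu ((mem_ptIdeal P m hm x).mp hx')))
  haveI := hQ'prime
  have hT : ∀ t ∈ T, MvPolynomial.map m.baseHom t ∉ Q' := fun t ht hmem => by
    have h := (hQh _).mp (hQ'le hmem)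
    rw [eval₂_map] at h
    exact m.unit_mem t ht h
  obtain ⟨m', hle, hpt⟩ := exists_mem_of_prime m P.ι Q' hT
  have hiff : ∀ p : MvPolynomial (Fin n) V₁, p ∈ Q₁ ↔ m'.ev P.ι (MvPolynomial.map V₁.subtype p) ∈ m'.V.nonunits :=
    fun p => by
      rw [← hpt _ _ (hρmap p), hover.over]
      rfl
  have hle' : V₁ ≤ m'.comap P.ι := hm ▸ hle
  have hlt : V₁ < m'.comap P.ι := by
    refine lt_of_le_of_ne hle' fun heq => ?_
    have h1 : (C dd : MvPolynomial (Fin n) V₁) ∉ Q₁ := fun h =>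
      Set.disjoint_left.mp hdis h (Submonoid.mem_sup_right (Submonoid.mem_powers _))
    rw [hiff, map_C, m'.ev_C, ← m'.mem_nonunits_comap, ← heq] at h1
    exact h1 hd
  obtain ⟨s, g, hs, hu, hg, heq⟩ := (hInt m' hlt).exists_in P hle'
  obtain ⟨p, rfl⟩ := hs
  refine hu ((hiff p).mp (hbQ₁ ⟨0, g, hg, ?_⟩))
  rwa [pow_zero, div_one]

/-- A multiple of `c` with nonvanishing reduction. -/
def Witness (m : Mem T κ) (V₁ : ValuationSubring P.K) (c : P.K) (g : FreeMod P.K a n) : Prop :=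
  m.comap P.ι = V₁ ∧ VecIn V₁ g ∧
    (∃ s ∈ polyIn V₁, m.ev P.ι s ∉ m.V.nonunits ∧ s • P.f - c • g ∈ P.U) ∧
    ∀ s₂ ∈ polyIn V₁, m.ev P.ι s₂ ∉ m.V.nonunits → ∀ w, VecNon V₁ w → s₂ • g - w ∉ P.U

/-- Either a multiple of `c dʲ`, or an exact multiple of a divisor with nonvanishing reduction. -/
theorem div_or_witness (hd : d ∈ V₁.nonunits) (hd0 : d ≠ 0) (hup : ∀ V', V₁ < V' → d⁻¹ ∈ V')
    (hInt : ∀ m : Mem T κ, V₁ < m.comap P.ι → P.Div m c) {j : ℕ} (hj : 0 < j) (m : Mem T κ)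
    (hm : m.comap P.ι = V₁) :
    P.Div m (c * d ^ j) ∨ ∃ c' g, (∃ e ∈ V₁, c * d ^ j = c' * e) ∧ Witness P m V₁ c' g := by
  classical
  obtain ⟨N, s, g, ⟨sp, rfl⟩, hu, hg, heq⟩ := exists_div_pow P hd hd0 hInt m hm
  obtain ⟨g', rfl⟩ := hg.exists_phi
  let D : V₁ := (⟨d, V₁.nonunits_subset hd⟩ : V₁) ^ (N + j)
  have hDu : D ∈ IsLocalRing.maximalIdeal V₁ :=
    Ideal.pow_mem_of_mem _ (ValuationSubring.coe_mem_nonunits_iff.mp hd) _ (by omega)
  have hD : ∀ z ∈ IsLocalRing.maximalIdeal V₁, ∃ k : ℕ, D ∣ z ^ k := fun z hz => by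
    obtain ⟨k, hk⟩ := exists_dvd_pow hd hd0 hup z hz
    exact ⟨k * (N + j), by rw [pow_mul]; exact pow_dvd_pow_of_dvd hk _⟩
  obtain ⟨s₁, hs₁, h⟩ := exists_content hDu hD (pull V₁ P.U) satW_pull_le (ptIdeal P m hm) g'
  rw [mem_ptIdeal] at hs₁
  have hprod : m.ev P.ι (MvPolynomial.map V₁.subtype s₁ * MvPolynomial.map V₁.subtype sp) ∉ m.V.nonunits := by
    rw [map_mul]
    exact notMem_nonunits_mul (m.ev_mem P.ι (by rw [hm]; exact ⟨_, rfl⟩))
      (m.ev_mem P.ι (by rw [hm]; exact ⟨_, rfl⟩)) hs₁ hu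
  have hDval : (D : P.K) = d ^ (N + j) := rfl
  have hcd : c / d ^ N * d ^ (N + j) = c * d ^ j := by rw [pow_add]; field_simp
  have hbase : (MvPolynomial.map V₁.subtype s₁ * MvPolynomial.map V₁.subtype sp) • P.f -
      (c / d ^ N) • (MvPolynomial.map V₁.subtype s₁ • phi P.K g') ∈ P.U := by
    rw [mul_smul, smul_comm (c / d ^ N), ← smul_sub]
    exact P.U.smul_mem _ heq
  have hphis : phi P.K (s₁ • g') = MvPolynomial.map V₁.subtype s₁ • phi P.K g' := phi_smul _ _ _
  rcases h with h | ⟨c', g'', hc', h, hkill⟩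
  · obtain ⟨w, hw, hwU⟩ := exists_of_mem_sup_span P h
    rw [hphis] at hwU
    refine Or.inl ⟨_, w, by rw [hm]; exact (polyIn V₁).mul_mem ⟨_, rfl⟩ ⟨_, rfl⟩, hprod, hm ▸ hw, ?_⟩
    have h2 := add_mem hbase (Submodule.smul_of_tower_mem P.U (c / d ^ N) hwU)
    rwa [smul_sub, hDval, smul_smul, hcd, sub_add_sub_cancel] at h2
  obtain ⟨e, he⟩ := hc'
  obtain ⟨w, hw, hwU⟩ := exists_of_mem_sup_span P h
  rw [map_sub, hphis, phi_smul, map_C, show (C (algebraMap V₁ P.K c') : MvPolynomial (Fin n) P.K) • phi P.K g'' =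
    (c' : P.K) • phi P.K g'' from algebraMap_smul (MvPolynomial (Fin n) P.K) (c' : P.K) (phi P.K g'')] at hwU
  have heq' : (MvPolynomial.map V₁.subtype s₁ * MvPolynomial.map V₁.subtype sp) • P.f -
      (c / d ^ N * (c' : P.K)) • (phi P.K g'' + (e : P.K) • w) ∈ P.U := by
    have h2 := add_mem hbase (Submodule.smul_of_tower_mem P.U (c / d ^ N) hwU)
    rw [show (D : P.K) = (c' : P.K) * e from congrArg Subtype.val he] at h2
    have e2 : ∀ (x y z u : FreeMod P.K a n) (k c₁ e₁ : P.K),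
        x - k • y + k • (y - c₁ • z - (c₁ * e₁) • u) = x - (k * c₁) • (z + e₁ • u) := by
      intros
      simp only [smul_sub, smul_add, smul_smul, mul_assoc]
      abel
    rw [← e2 _ (MvPolynomial.map V₁.subtype s₁ • phi P.K g') (phi P.K g'') w]
    exact h2
  have hmul : c * d ^ j = c / d ^ N * (c' : P.K) * e := by
    rw [mul_assoc, ← show (D : P.K) = (c' : P.K) * e from congrArg Subtype.val he, hDval, hcd]
  have hvec : VecIn V₁ (phi P.K g'' + (e : P.K) • w) := (vecIn_phi g'').add (hw.smul_scalar e.2)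
  by_cases hu_e : IsUnit e
  · obtain ⟨ei, rfl⟩ := hu_e
    refine Or.inl ⟨_, (((ei⁻¹ : V₁ˣ) : V₁) : P.K) • (phi P.K g'' + ((ei : V₁) : P.K) • w),
      by rw [hm]; exact (polyIn V₁).mul_mem ⟨_, rfl⟩ ⟨_, rfl⟩, hprod,
      hm ▸ hvec.smul_scalar ((ei⁻¹ : V₁ˣ) : V₁).2, ?_⟩
    rw [smul_smul, hmul, mul_assoc _ _ (((ei⁻¹ : V₁ˣ) : V₁) : P.K),
      show ((ei : V₁) : P.K) * (((ei⁻¹ : V₁ˣ) : V₁) : P.K) = 1 from congrArg Subtype.val ei.mul_inv, mul_one]
    exact heq'
  refine Or.inr ⟨c / d ^ N * (c' : P.K), _, ⟨e, e.2, hmul⟩, hm, hvec, ⟨_, (polyIn V₁).mul_mem ⟨_, rfl⟩ ⟨_, rfl⟩, hprod, heq'⟩, ?_⟩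
  rintro _ ⟨s₂, rfl⟩ hu₂ x hx hmem
  have hxe : VecNon V₁ (x - MvPolynomial.map V₁.subtype s₂ • (e : P.K) • w) := fun i l => by
    have h1 := hx i l
    have h2 := (VecNon.smul ⟨s₂, rfl⟩ (VecNon.smul_vecIn
      (ValuationSubring.coe_mem_nonunits_iff.mpr ((IsLocalRing.mem_maximalIdeal _).mpr hu_e)) hw)) i l
    rw [Pi.sub_apply, coeff_sub]
    exact sub_mem h1 h2
  obtain ⟨x', hx'm, hx'⟩ := hxe.exists_phi
  refine hkill s₂ (fun h0 => hu₂ ((mem_ptIdeal P m hm s₂).mp h0)) ?_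
  have hmem' : s₂ • g'' - x' ∈ pull V₁ P.U := by
    rw [mem_pull, map_sub, phi_smul, hx']
    convert hmem using 1
    rw [smul_add]
    show MvPolynomial.map V₁.subtype s₂ • phi P.K g'' - _ = _
    abel
  have h3 := Submodule.add_mem_sup hmem' hx'm
  rwa [sub_add_cancel] at h3

/-- A multiple of `c` at all larger rings is a multiple of all `c dʲ` over the refinement. -/
theorem div_all_pow (hc : c ≠ 0) (hd : d ∈ V₁.nonunits) (hd0 : d ≠ 0) (hup : ∀ V', V₁ < V' → d⁻¹ ∈ V')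
    (hInt : ∀ m : Mem T κ, V₁ < m.comap P.ι → P.Div m c) (hvan : P.Vanish T V₁) (j : ℕ)
    (m : Mem T κ) (hm : m.comap P.ι = V₁) : P.Div m (c * d ^ j) := by
  classical
  -- reduce to a positive exponent
  suffices key : ∀ j, 0 < j → ∀ m : Mem T κ, m.comap P.ι = V₁ → P.Div m (c * d ^ j) by
    refine (key (j + 1) (Nat.succ_pos _) m hm).of_dvd P (e := d) ?_ (by rw [pow_succ, mul_assoc])
    rw [hm]; exact V₁.nonunits_subset hd
  clear j m hm
  intro j hj
  let Att : P.K → Prop := fun c' =>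
    (∃ e ∈ V₁, c * d ^ j = c' * e) ∧ ∃ (m : Mem T κ) (g : FreeMod P.K a n), Witness P m V₁ c' g
  by_contra hcon
  push Not at hcon
  obtain ⟨m₀, hm₀, hbad⟩ := hcon
  obtain ⟨c₁, g₁, hc₁, hw₁⟩ := (div_or_witness P hd hd0 hup hInt hj m₀ hm₀).resolve_left hbad
  have hne : ∀ c', Att c' → c' ≠ 0 := fun c' h => by
    obtain ⟨⟨e, -, he⟩, -⟩ := h
    intro h0
    rw [h0, zero_mul] at he
    exact mul_ne_zero hc (pow_ne_zero _ hd0) he
  -- the killers of the witnesses up to a given scalar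
  let kI : P.K → Ideal (MvPolynomial (Fin n) V₁) := fun c₀ =>
    { carrier := {p | ∀ c' e, Att c' → e ∈ V₁ → c₀ = c' * e → ∀ (m : Mem T κ) g, Witness P m V₁ c' g →
        ∃ w, VecNon V₁ w ∧ MvPolynomial.map V₁.subtype p • g - w ∈ P.U}
      zero_mem' := fun c' e _ _ _ m g _ => ⟨0, vecNon_zero, by simp⟩
      add_mem' := fun {p p'} hp hp' c' e ha he h m g hg => by
        obtain ⟨w, hw, h1⟩ := hp c' e ha he h m g hg
        obtain ⟨w', hw', h2⟩ := hp' c' e ha he h m g hg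
        refine ⟨w + w', fun i l => by rw [Pi.add_apply, coeff_add]; exact add_mem (hw i l) (hw' i l), ?_⟩
        rw [map_add, add_smul, add_sub_add_comm]
        exact add_mem h1 h2
      smul_mem' := fun r p hp c' e ha he h m g hg => by
        obtain ⟨w, hw, h1⟩ := hp c' e ha he h m g hg
        refine ⟨MvPolynomial.map V₁.subtype r • w, VecNon.smul ⟨r, rfl⟩ hw, ?_⟩
        rw [smul_eq_mul, map_mul, mul_smul, ← smul_sub]
        exact P.U.smul_mem _ h1 }
  let red := MvPolynomial.map (σ := Fin n) (algebraMap V₁ (IsLocalRing.ResidueField V₁))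
  obtain ⟨_, ⟨c₀, hc₀, rfl⟩, hmax⟩ := set_has_maximal_iff_noetherian.mpr
    (inferInstance : IsNoetherian (MvPolynomial (Fin n) (IsLocalRing.ResidueField V₁))
      (MvPolynomial (Fin n) (IsLocalRing.ResidueField V₁)))
    ((fun c' => (kI c').map red) '' {c' | Att c'}) ⟨_, c₁, ⟨hc₁, m₀, g₁, hw₁⟩, rfl⟩
  obtain ⟨hdvd, m', g', hm', hg', ⟨s, ⟨sp, rfl⟩, hu, heq⟩, hnz⟩ := hc₀.1, hc₀.2
  -- the chosen scalar is the least
  have hleast : ∀ c', Att c' → c' / c₀ ∈ V₁ := by
    intro c' hatt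
    by_contra hnot
    have hinv : (c' / c₀)⁻¹ ∈ V₁ := (V₁.mem_or_inv_mem _).resolve_left hnot
    have hc₀0 := hne c₀ hc₀
    have hle : kI c₀ ≤ kI c' := fun p hp c'' e ha he h m g hg => by
      refine hp c'' (e * (c' / c₀)⁻¹) ha (V₁.mul_mem _ _ he hinv) ?_ m g hg
      rw [← mul_assoc, ← h, inv_div, mul_div_cancel₀ _ (hne c' hatt)]
    have hs : sp ∈ kI c' := fun c'' e ha he h m g hg => by
      obtain ⟨-, hg'', ⟨s'', hs'', -, heq''⟩, -⟩ := hg
      refine ⟨(e * (c' / c₀)⁻¹) • s'' • g', VecNon.smul_vecIn ?_ (VecIn.smul hs'' hg'), ?_⟩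
      · rw [V₁.mem_nonunits_iff, map_mul]
        refine mul_lt_one_left ((V₁.valuation_le_one_iff _).mpr he) ?_
        rw [map_inv₀]
        exact inv_lt_one_of_one_lt₀ (not_le.mp fun hle' => hnot ((V₁.valuation_le_one_iff _).mp hle'))
      have hc'' : c₀ = c'' * (e * (c' / c₀)⁻¹) := by
        rw [← mul_assoc, ← h, inv_div, mul_div_cancel₀ _ (hne c' hatt)]
      rw [(eq_inv_mul_iff_mul_eq₀ (hne c'' ha)).mpr hc''.symm]
      exact scaled_sub (hne c'' ha) heq heq''
    have h1 : red sp ∈ (kI c₀).map red := by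
      have h2 := Ideal.mem_map_of_mem red hs
      rwa [← eq_of_le_of_not_lt (Ideal.map_mono hle) (hmax _ ⟨c', hatt, rfl⟩)] at h2
    rw [Ideal.mem_map_iff_of_surjective red (MvPolynomial.map_surjective _ IsLocalRing.residue_surjective)] at h1
    obtain ⟨p, hp, hpe⟩ := h1
    obtain ⟨w, hw, hwU⟩ := hp c₀ 1 hc₀ V₁.one_mem (mul_one _).symm m' g' ⟨hm', hg', ⟨_, ⟨sp, rfl⟩, hu, heq⟩, hnz⟩
    refine hnz _ ⟨p, rfl⟩ ?_ w hw hwU
    rwa [← mem_ptIdeal P m' hm', show MvPolynomial.map (algebraMap V₁ _) p = red sp from hpe, mem_ptIdeal]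
  have hInt₀ : P.IntAt T V₁ c₀ := by
    intro m hm
    rcases hm.eq_or_lt with hm | hm
    · rcases div_or_witness P hd hd0 hup hInt hj m hm.symm with h | ⟨c', g, hc', hw⟩
      · obtain ⟨e, he, hce⟩ := hdvd
        exact h.of_dvd P (e := e) (hm ▸ he) hce
      · obtain ⟨-, hg, ⟨s, hs, hus, heqs⟩, -⟩ := id hw
        have hdiv : P.Div m c' := ⟨s, g, hm ▸ hs, hus, hm ▸ hg, heqs⟩
        refine hdiv.of_dvd P (e := c' / c₀) (hm ▸ hleast c' ⟨hc', m, g, hw⟩) ?_
        rw [mul_div_cancel₀ _ (hne c₀ hc₀)]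
    · obtain ⟨e, he, hce⟩ := hdvd
      have h1 : P.Div m c := hInt m hm
      have h2 : P.Div m (c * d ^ j) := by
        refine h1.of_dvd P (e := (d ^ j)⁻¹) ?_ (by rw [mul_assoc, mul_inv_cancel₀ (pow_ne_zero _ hd0), mul_one])
        rw [← inv_pow]; exact pow_mem (hup _ hm) _
      exact h2.of_dvd P (e := e) (hm.le he) hce
  obtain ⟨s₂, w, hs₂, hu₂, hw, heq₂⟩ := hvan c₀ hInt₀ m' hm'
  rw [hm'] at hs₂ hw
  refine hnz s₂ hs₂ hu₂ (MvPolynomial.map V₁.subtype sp • w) (VecNon.smul ⟨sp, rfl⟩ hw) ?_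
  have h2 := scaled_sub (hne c₀ hc₀) heq₂ heq
  rwa [inv_mul_cancel₀ (hne c₀ hc₀), one_smul] at h2

end Groth.Agent.UILLib
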