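import Mathlib

/-!
# Valuation subrings of a finitely generated field form chains of bounded length
-/

set_option autoImplicit false
set_option linter.style.haveILetI false

universe u

open scoped Classical

namespace Groth.Agent.UILLib

variable {K : Type u} [Field K]

/-- Units of a smaller valuation ring are units of a larger one. -/
theorem valuation_eq_one_of_le {R S : ValuationSubring K} (h : R ≤ S) {x : K}
    (hx : R.valuation x = 1) : S.valuation x = 1 := by
  rw [← ValuationSubring.mapOfLE_valuation_apply R S h x, hx, map_one]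

theorem valuation_natCast_le_one (v : ValuationSubring K) (n : ℕ) : v.valuation (n : K) ≤ 1 :=
  (v.valuation_le_one_iff _).mpr (natCast_mem v n)

theorem valuation_intCast_le_one (v : ValuationSubring K) (n : ℤ) : v.valuation (n : K) ≤ 1 :=
  (v.valuation_le_one_iff _).mpr (intCast_mem v n)

/-- The values of the natural numbers are the powers of one value. -/
theorem exists_uniformiser (v : ValuationSubring K) :
    ∃ π : K, π ≠ 0 ∧ (∀ R : ValuationSubring K, R.valuation π ≤ 1) ∧
      ∀ n : ℕ, (n : K) ≠ 0 → ∃ k : ℕ, v.valuation (n : K) = v.valuation π ^ k := by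
  by_cases h : ∃ n : ℕ, (n : K) ≠ 0 ∧ v.valuation (n : K) < 1
  swap
  · push Not at h
    exact ⟨1, one_ne_zero, fun R => (map_one _).le, fun n hn => ⟨0, by
      rw [pow_zero]; exact le_antisymm (valuation_natCast_le_one v n) (h n hn)⟩⟩
  refine ⟨(Nat.find h : K), (Nat.find_spec h).1, fun R => valuation_natCast_le_one R _, fun n => ?_⟩
  induction n using Nat.strong_induction_on with
  | _ n ih =>
    intro hn
    rcases (valuation_natCast_le_one v n).eq_or_lt with h1 | h1
    · exact ⟨0, by rw [pow_zero, h1]⟩
    have hp : 2 ≤ Nat.find h := by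
      obtain ⟨hp0, hp1⟩ := Nat.find_spec h
      rcases hcases : Nat.find h with _ | _ | m
      · rw [hcases, Nat.cast_zero] at hp0; exact absurd rfl hp0
      · rw [hcases, Nat.cast_one, map_one] at hp1; exact absurd hp1 (lt_irrefl _)
      · omega
    obtain ⟨hp0, hp1⟩ := Nat.find_spec h
    have hdiv : n % Nat.find h + Nat.find h * (n / Nat.find h) = n := Nat.mod_add_div _ _
    have hr : ((n % Nat.find h : ℕ) : K) = 0 := by
      by_contra hr
      refine Nat.find_min h (Nat.mod_lt n (by omega)) ⟨hr, ?_⟩
      have h2 : ((n % Nat.find h : ℕ) : K) = n - (Nat.find h : K) * ((n / Nat.find h : ℕ) : K) := by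
        conv_rhs => arg 1; rw [← hdiv]
        push_cast
        ring
      rw [h2]
      refine lt_of_le_of_lt (Valuation.map_sub _ _ _) (max_lt h1 ?_)
      rw [map_mul]
      exact mul_lt_one_of_lt_of_le hp1 (valuation_natCast_le_one v _)
    have hnq : (n : K) = (Nat.find h : K) * ((n / Nat.find h : ℕ) : K) := by
      conv_lhs => rw [← hdiv]
      push_cast
      rw [hr, zero_add]
    have hq : ((n / Nat.find h : ℕ) : K) ≠ 0 := fun h0 => hn (by rw [hnq, h0, mul_zero])
    have hn0 : 0 < n := Nat.pos_of_ne_zero fun h0 => hn (by rw [h0, Nat.cast_zero])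
    obtain ⟨k, hk⟩ := ih _ (Nat.div_lt_self hn0 hp) hq
    exact ⟨k + 1, by rw [hnq, map_mul, hk, pow_succ, mul_comm]⟩

/-- The elements of the prime field have the values of powers of one element. -/
theorem exists_uniformiser_bot (v : ValuationSubring K) :
    ∃ π : K, π ≠ 0 ∧ (∀ R : ValuationSubring K, R.valuation π ≤ 1) ∧
      ∀ x ∈ (⊥ : Subfield K), x ≠ 0 → ∃ k : ℤ, v.valuation x = v.valuation π ^ k := by
  obtain ⟨π, hπ, hπ1, hn⟩ := exists_uniformiser v
  have hz : ∀ a : ℤ, (a : K) ≠ 0 → ∃ k : ℕ, v.valuation (a : K) = v.valuation π ^ k := by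
    intro a ha
    obtain ⟨m, rfl | rfl⟩ := a.eq_nat_or_neg
    · push_cast at ha ⊢; exact hn m ha
    · push_cast at ha ⊢; rw [Valuation.map_neg]; exact hn m (neg_ne_zero.mp ha)
  refine ⟨π, hπ, hπ1, fun x hx hx0 => ?_⟩
  have key : ∃ a b : ℤ, (b : K) ≠ 0 ∧ x * b = a := by
    rw [← Subfield.closure_empty] at hx
    clear hx0
    induction hx using Subfield.closure_induction with
    | mem x hx => exact hx.elim
    | one => exact ⟨1, 1, by simp, by simp⟩
    | add x y _ _ hx hy =>
      obtain ⟨a, b, hb, hab⟩ := hx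
      obtain ⟨c, d, hd, hcd⟩ := hy
      refine ⟨a * d + c * b, b * d, by push_cast; exact mul_ne_zero hb hd, ?_⟩
      push_cast
      rw [← hab, ← hcd]; ring
    | neg x _ hx =>
      obtain ⟨a, b, hb, hab⟩ := hx
      exact ⟨-a, b, hb, by push_cast; rw [← hab]; ring⟩
    | inv x _ hx =>
      obtain ⟨a, b, hb, hab⟩ := hx
      rcases eq_or_ne x 0 with rfl | hx0
      · exact ⟨0, 1, by simp, by simp⟩
      refine ⟨b, a, by rw [← hab]; exact mul_ne_zero hx0 hb, ?_⟩
      rw [← hab, ← mul_assoc, inv_mul_cancel₀ hx0, one_mul]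
    | mul x y _ _ hx hy =>
      obtain ⟨a, b, hb, hab⟩ := hx
      obtain ⟨c, d, hd, hcd⟩ := hy
      refine ⟨a * c, b * d, by push_cast; exact mul_ne_zero hb hd, ?_⟩
      push_cast
      rw [← hab, ← hcd]; ring
  obtain ⟨a, b, hb, hab⟩ := key
  obtain ⟨i, hi⟩ := hz a (by rw [← hab]; exact mul_ne_zero hx0 hb)
  obtain ⟨j, hj⟩ := hz b hb
  refine ⟨(i : ℤ) - j, ?_⟩
  have h1 : v.valuation x * v.valuation π ^ j = v.valuation π ^ i := by rw [← hj, ← map_mul, hab, hi]
  have hπ0 : v.valuation π ≠ 0 := (Valuation.ne_zero_iff _).mpr hπ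
  rw [zpow_sub₀ hπ0, zpow_natCast, zpow_natCast, eq_div_iff (pow_ne_zero _ hπ0), h1]

section Chain

variable {r : ℕ} (V : Fin (r + 1) → ValuationSubring K) (hV : Monotone V)

include hV in
/-- Monomials in elements of separate levels which are units below have zero exponents. -/
theorem exponent_eq_zero (b : Fin r → K)
    (hlow : ∀ i, (V i.castSucc).valuation (b i) < 1) (hhigh : ∀ i, (V i.succ).valuation (b i) = 1)
    (z : Fin r → ℤ) (hz : (V 0).valuation (∏ i, b i ^ z i) = 1) : z = 0 := by
  by_contra hne
  obtain ⟨i₁, hi₁⟩ : ∃ i, z i ≠ 0 := Function.ne_iff.mp hne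
  have hne' : (Finset.univ.filter fun i => z i ≠ 0).Nonempty := ⟨i₁, by simp [hi₁]⟩
  let i := (Finset.univ.filter fun i => z i ≠ 0).max' hne'
  have hi : z i ≠ 0 := (Finset.mem_filter.mp (Finset.max'_mem _ hne')).2
  have h1 := valuation_eq_one_of_le (hV (Fin.zero_le i.castSucc)) hz
  rw [map_prod, Finset.prod_eq_single i] at h1
  · rw [map_zpow₀] at h1
    rcases lt_or_gt_of_ne hi with h | h
    · have hb0 : (0 : (V i.castSucc).ValueGroup) < (V i.castSucc).valuation (b i) := by
        refine zero_lt_iff.mpr fun h0 => ?_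
        rw [h0, zero_zpow _ hi] at h1
        exact zero_ne_one h1
      exact absurd h1 (ne_of_gt (one_lt_zpow_of_neg₀ hb0 (hlow i) h))
    · exact absurd h1 (ne_of_lt (zpow_lt_one₀ (zero_lt_iff.mpr fun h0 => by
        rw [h0, zero_zpow _ hi] at h1; exact zero_ne_one h1) (hlow i) h))
  · intro j _ hji
    rw [map_zpow₀]
    rcases lt_or_gt_of_ne hji with hlt | hgt
    · rw [valuation_eq_one_of_le (hV (Fin.succ_le_castSucc_iff.mpr hlt)) (hhigh j), one_zpow]
    · have : z j = 0 := by
        by_contra hj
        exact absurd (Finset.le_max' _ j (by simp [hj])) (not_le.mpr hgt)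
      rw [this, zpow_zero]
  · exact fun h => absurd (Finset.mem_univ i) h

end Chain

/-- A strict chain of valuation subrings has length bounded by the transcendence degree plus one. -/
theorem chain_le (G : Finset K) (hG : Subfield.closure (G : Set K) = ⊤) {r : ℕ}
    (V : Fin (r + 1) → ValuationSubring K) (hV : StrictMono V) : r ≤ G.card + 1 := by
  obtain ⟨π, hπ, hπ1, hπk⟩ := exists_uniformiser_bot (V 0)
  have hb : ∀ i : Fin r, ∃ b : K, (V i.castSucc).valuation b < 1 ∧ (V i.succ).valuation b = 1 := by
    intro i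
    obtain ⟨x, hx, hx'⟩ := SetLike.exists_of_lt (hV Fin.castSucc_lt_succ : V i.castSucc < V i.succ)
    have hx0 : x ≠ 0 := fun h => hx' (h ▸ zero_mem _)
    have h1 : 1 < (V i.castSucc).valuation x :=
      not_le.mp fun h => hx' (((V i.castSucc).valuation_le_one_iff x).mp h)
    refine ⟨x⁻¹, by rw [map_inv₀]; exact inv_lt_one_of_one_lt₀ h1, ?_⟩
    have h2 : x⁻¹ ∈ V i.succ := (hV.monotone Fin.castSucc_lt_succ.le)
      (((V i.castSucc).valuation_le_one_iff _).mp (by rw [map_inv₀]; exact (inv_lt_one_of_one_lt₀ h1).le))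
    refine le_antisymm (((V i.succ).valuation_le_one_iff _).mpr h2) ?_
    rw [map_inv₀]
    exact (one_le_inv₀ (zero_lt_iff.mpr ((Valuation.ne_zero_iff _).mpr hx0))).mpr
      (((V i.succ).valuation_le_one_iff x).mpr hx)
  choose b hlow hhigh using hb
  let bad : Fin r → Prop := fun i =>
    (V i.castSucc).valuation π < 1 ∧ (V i.succ).valuation π = 1
  have hbad : ∀ i j, bad i → bad j → i = j := by
    intro i j hi hj
    rcases lt_trichotomy i j with h | h | h
    · exact absurd (valuation_eq_one_of_le (hV.monotone (Fin.succ_le_castSucc_iff.mpr h)) hi.2) hj.1.ne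
    · exact h
    · exact absurd (valuation_eq_one_of_le (hV.monotone (Fin.succ_le_castSucc_iff.mpr h)) hj.2) hi.1.ne
  let ι := {i : Fin r // ¬ bad i}
  let k0 : Subfield K := ⊥
  have hind : AlgebraicIndependent k0 (fun i : ι => b i.1) := by
    rw [algebraicIndependent_iff]
    intro P hP
    by_contra hne
    let val : (ι →₀ ℕ) → (V 0).ValueGroup := fun e =>
      (V 0).valuation (((P.coeff e : k0) : K) * ∏ i : ι, b i.1 ^ (e i))
    have hb0 : ∀ i, b i ≠ 0 := fun i h => by
      have := hhigh i; rw [h, map_zero] at this; exact zero_ne_one this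
    have hval0 : ∀ e ∈ P.support, val e ≠ 0 := fun e he => (Valuation.ne_zero_iff _).mpr
      (mul_ne_zero (fun h => MvPolynomial.mem_support_iff.mp he (Subtype.ext h))
        (Finset.prod_ne_zero_iff.mpr fun i _ => pow_ne_zero _ (hb0 _)))
    have hinj : ∀ e ∈ P.support, ∀ e' ∈ P.support, val e = val e' → e = e' := by
      intro e he e' he' heq
      have hc : ∀ e ∈ P.support, ((P.coeff e : k0) : K) ≠ 0 := fun e he h =>
        MvPolynomial.mem_support_iff.mp he (Subtype.ext h)
      obtain ⟨k, hk⟩ := hπk _ (P.coeff e).2 (hc e he)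
      obtain ⟨k', hk'⟩ := hπk _ (P.coeff e').2 (hc e' he')
      let w : Fin r → ℤ := fun i => if h : bad i then (k - k') else (e ⟨i, h⟩ : ℤ) - e' ⟨i, h⟩
      let c : Fin r → K := fun i => if bad i then π else b i
      have hc' : ∀ i, (V i.castSucc).valuation (c i) < 1 ∧ (V i.succ).valuation (c i) = 1 := fun i => by
        by_cases h : bad i
        · simp only [c, if_pos h]; exact h
        · simp only [c, if_neg h]; exact ⟨hlow i, hhigh i⟩
      have hratio : (V 0).valuation π ^ (k - k') * ∏ i : ι, (V 0).valuation (b i.1) ^ ((e i : ℤ) - e' i) = 1 := by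
        have h0 : ∀ i, (V 0).valuation (b i) ≠ 0 := fun i => (Valuation.ne_zero_iff _).mpr (hb0 i)
        have hπ0 : (V 0).valuation π ≠ 0 := (Valuation.ne_zero_iff _).mpr hπ
        have : ∀ i : ι, (V 0).valuation (b i.1) ^ ((e i : ℤ) - e' i) =
            (V 0).valuation (b i.1) ^ (e i) / (V 0).valuation (b i.1) ^ (e' i) := fun i => by
          rw [zpow_sub₀ (h0 _), zpow_natCast, zpow_natCast]
        simp only [val, map_mul, map_prod, map_pow, hk, hk'] at heq
        rw [Finset.prod_congr rfl (fun i _ => this i), Finset.prod_div_distrib, zpow_sub₀ hπ0,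
          div_mul_div_comm, heq, div_self]
        exact mul_ne_zero (zpow_ne_zero _ hπ0) (Finset.prod_ne_zero_iff.mpr fun i _ => pow_ne_zero _ (h0 _))
      -- either the uniformiser occupies a level, or it is a unit at the top, or below at the top
      have hw : w = 0 ∧ ((∀ i, ¬ bad i) → (V 0).valuation π ^ (k - k') = 1) := by
        by_cases hex : ∃ i, bad i
        · obtain ⟨i₀, hi₀⟩ := hex
          refine ⟨exponent_eq_zero V hV.monotone c (fun i => (hc' i).1) (fun i => (hc' i).2) w ?_,
            fun h => absurd hi₀ (h i₀)⟩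
          rw [map_prod, ← hratio, ← Finset.prod_filter_mul_prod_filter_not Finset.univ bad]
          congr 1
          · rw [Finset.prod_eq_single i₀]
            · simp only [c, w, if_pos hi₀, dif_pos hi₀, map_zpow₀]
            · exact fun j hj hne => absurd (hbad j i₀ (Finset.mem_filter.mp hj).2 hi₀) hne
            · exact fun h => absurd (Finset.mem_filter.mpr ⟨Finset.mem_univ _, hi₀⟩) h
          · rw [Finset.prod_subtype (p := fun i => ¬ bad i) _ (by simp)]
            refine Finset.prod_congr rfl fun i _ => ?_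
            simp only [c, w, if_neg i.2, dif_neg i.2, map_zpow₀]
        push Not at hex
        have hlast : (V 0).valuation π ^ (k - k') = 1 := by
          by_cases h1 : (V 0).valuation π = 1
          · rw [h1, one_zpow]
          have hk0 : k - k' = 0 := by
            by_contra hk0
            let φ := (V 0).mapOfLE (V (Fin.last r)) (hV.monotone (Fin.le_last 0))
            have hφ : ∀ x, φ ((V 0).valuation x) = (V (Fin.last r)).valuation x :=
              ValuationSubring.mapOfLE_valuation_apply _ _ _
            have h2 := congrArg φ hratio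
            rw [map_mul, map_zpow₀, map_prod, map_one, hφ, Finset.prod_eq_one (fun i _ => by
              rw [map_zpow₀, hφ, valuation_eq_one_of_le (hV.monotone (Fin.le_last _)) (hhigh i.1), one_zpow]),
              mul_one] at h2
            -- the uniformiser is a unit at the top, so some level is bad
            have h3 : (V (Fin.last r)).valuation π = 1 := by
              refine (hπ1 _).eq_of_not_lt fun hl => ?_
              rcases lt_or_gt_of_ne hk0 with hh | hh
              · exact (one_lt_zpow_of_neg₀ (zero_lt_iff.mpr ((Valuation.ne_zero_iff _).mpr hπ)) hl hh).ne' h2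
              · exact (zpow_lt_one₀ (zero_lt_iff.mpr ((Valuation.ne_zero_iff _).mpr hπ)) hl hh).ne h2
            obtain ⟨i, hi, hmin⟩ : ∃ i : Fin (r + 1), (V i).valuation π = 1 ∧ ∀ j < i, (V j).valuation π ≠ 1 :=
              ⟨_, (Finset.mem_filter.mp (Finset.min'_mem
                (Finset.univ.filter fun i => (V i).valuation π = 1) ⟨Fin.last r, by simp [h3]⟩)).2,
                fun j hj hj1 => not_le.mpr hj (Finset.min'_le _ _ (by simp [hj1]))⟩
            obtain ⟨j, rfl⟩ := Fin.exists_succ_eq.mpr (fun h => h1 (h ▸ hi))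
            exact hex j ⟨(hπ1 _).lt_of_ne (hmin _ Fin.castSucc_lt_succ), hi⟩
          rw [hk0, zpow_zero]
        refine ⟨funext fun i => ?_, fun _ => hlast⟩
        have h5 := exponent_eq_zero V hV.monotone b hlow hhigh w (by
          rw [map_prod]
          rw [hlast, one_mul] at hratio
          rw [← hratio]
          refine (Finset.prod_bij (fun i _ => (⟨i, hex i⟩ : ι)) (fun _ _ => Finset.mem_univ _)
            (fun _ _ _ _ h => congrArg Subtype.val h) (fun i _ => ⟨i.1, Finset.mem_univ _, rfl⟩) ?_)
          intro j _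
          simp only [w, dif_neg (hex j), map_zpow₀])
        exact congrFun h5 i
      ext i
      have h := congrFun hw.1 i.1
      simp only [w, dif_neg i.2, Pi.zero_apply] at h
      exact_mod_cast (sub_eq_zero.mp h)
    obtain ⟨e₀, he₀, hmax⟩ := Finset.exists_max_image P.support val (MvPolynomial.support_nonempty.mpr hne)
    rw [MvPolynomial.aeval_def, MvPolynomial.eval₂_eq'] at hP
    have h := congrArg (V 0).valuation hP
    rw [map_zero, Valuation.map_sum_eq_of_lt _ he₀] at h
    · exact hval0 e₀ he₀ h
    · intro e he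
      show val e < val e₀
      rw [Finset.mem_sdiff, Finset.mem_singleton] at he
      exact lt_of_le_of_ne (hmax e he.1) fun h' => he.2 (hinj e he.1 e₀ he₀ h')
  have halg : Algebra.IsAlgebraic (Algebra.adjoin k0 (G : Set K)) K := by
    refine ⟨fun x => ?_⟩
    have hx : x ∈ Subfield.closure (G : Set K) := hG ▸ Subfield.mem_top x
    induction hx using Subfield.closure_induction with
    | mem x hx => exact isAlgebraic_algebraMap (⟨x, Algebra.subset_adjoin hx⟩ : Algebra.adjoin k0 (G : Set K))
    | one => exact isAlgebraic_one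
    | add x y _ _ hx hy => exact hx.add hy
    | neg x _ hx => exact hx.neg
    | inv x _ hx => exact hx.inv
    | mul x y _ _ hx hy => exact hx.mul hy
  have h1 : Cardinal.mk ι ≤ (G.card : Cardinal) := by
    have h0 := hind.lift_cardinalMk_le_trdeg
    have h1 : Algebra.trdeg k0 K ≤ (G.card : Cardinal) :=
      (Algebra.IsAlgebraic.trdeg_le_cardinalMk k0 (G : Set K)).trans (by simp)
    have h2 := h0.trans (Cardinal.lift_le.mpr h1)
    simpa using h2
  have h2 : Fintype.card ι ≤ G.card := by rw [Cardinal.mk_fintype] at h1; exact_mod_cast h1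
  have h3 : r ≤ Fintype.card ι + 1 := by
    rw [Fintype.card_subtype_compl, Fintype.card_fin]
    have : Fintype.card {i // bad i} ≤ 1 := Fintype.card_le_one_iff.mpr fun i j => Subtype.ext (hbad _ _ i.2 j.2)
    omega
  omega

end Groth.Agent.UILLib
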