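import Groth.Agent.UILLib.Member

/-!
# The closed point: a map injective modulo the maximal ideal

If an element of the kernel is a multiple of a scalar over a valuation ring centred at the closed
point, the quotient vanishes at the closed fibre.
-/

set_option autoImplicit false
set_option linter.style.haveILetI false
set_option linter.unusedSectionVars false
set_option maxHeartbeats 1000000
set_option backward.isDefEq.respectTransparency false

universe u

open MvPolynomial TensorProduct Groth.Agent.GenFree Groth.Agent.FlatLocus Groth.Agent.RGFlatLib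

noncomputable section

namespace Groth.Agent.UILLib

/-- Injectivity modulo the maximal ideal persists over field extensions of the residue field. -/
theorem rTensor_injective_of_field {A N M : Type u} [CommRing A] [AddCommGroup N] [Module A N]
    [AddCommGroup M] [Module A M] (κ₀ k : Type u) [Field κ₀] [Field k] [Algebra A κ₀] [Algebra A k]
    [Algebra κ₀ k] [IsScalarTower A κ₀ k] (f : N →ₗ[A] M) (hf : Function.Injective (f.lTensor κ₀)) :
    Function.Injective (f.rTensor k) := by
  rw [← LinearMap.lTensor_inj_iff_rTensor_inj]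
  let f₀ : κ₀ ⊗[A] N →ₗ[κ₀] κ₀ ⊗[A] M := AlgebraTensorModule.lTensor κ₀ κ₀ f
  have h1 : Function.Injective (f₀.lTensor k) :=
    Module.Flat.lTensor_preserves_injective_linearMap f₀ hf
  let eN := AlgebraTensorModule.cancelBaseChange A κ₀ κ₀ k N
  let eM := AlgebraTensorModule.cancelBaseChange A κ₀ κ₀ k M
  have h2 : ∀ x, f.lTensor k (eN x) = eM (f₀.lTensor k x) := fun x => by
    induction x using TensorProduct.induction_on with
    | zero => simp
    | tmul c y =>
      induction y using TensorProduct.induction_on with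
      | zero => simp
      | tmul r m => simp [eN, eM, f₀]
      | add x y hx hy => simp only [TensorProduct.tmul_add, map_add, hx, hy]
    | add x y hx hy => simp only [map_add, hx, hy]
  intro x y hxy
  obtain ⟨x, rfl⟩ := eN.surjective x
  obtain ⟨y, rfl⟩ := eN.surjective y
  rw [h2, h2] at hxy
  exact congrArg eN (h1 (eM.injective hxy))

variable {A M : Type u} [CommRing A] [AddCommGroup M] [Module A M] {a n : ℕ}
  (KA : Submodule (MvPolynomial (Fin n) A) (FreeMod A a n)) (q : Ideal (MvPolynomial (Fin n) A)) [q.IsPrime]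

/-- The localized quotient. -/
abbrev Nq : Type u := LocalizedModule q.primeCompl (FreeMod A a n ⧸ KA)

/-- The localization map. -/
abbrev toNq : FreeMod A a n →ₗ[MvPolynomial (Fin n) A] Nq KA q :=
  LocalizedModule.mkLinearMap q.primeCompl _ ∘ₗ KA.mkQ

/-- Division by an element outside the prime. -/
def divT (t : q.primeCompl) : Nq KA q →ₗ[MvPolynomial (Fin n) A] Nq KA q :=
  ((IsLocalizedModule.map_units (LocalizedModule.mkLinearMap q.primeCompl (FreeMod A a n ⧸ KA)) t).unit⁻¹ :
    (Module.End (MvPolynomial (Fin n) A) (Nq KA q))ˣ).1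

theorem divT_smul (t : q.primeCompl) (x : Nq KA q) : divT KA q t ((t : MvPolynomial (Fin n) A) • x) = x :=
  LinearMap.congr_fun (IsLocalizedModule.map_units (LocalizedModule.mkLinearMap q.primeCompl
    (FreeMod A a n ⧸ KA)) t).unit.inv_mul x

theorem smul_divT (t : q.primeCompl) (x : Nq KA q) : (t : MvPolynomial (Fin n) A) • divT KA q t x = x :=
  LinearMap.congr_fun (IsLocalizedModule.map_units (LocalizedModule.mkLinearMap q.primeCompl
    (FreeMod A a n ⧸ KA)) t).unit.mul_inv x

theorem divT_bijective (t : q.primeCompl) : Function.Bijective (divT KA q t) :=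
  Function.bijective_iff_has_inverse.mpr
    ⟨fun x => (t : MvPolynomial (Fin n) A) • x, fun x => smul_divT KA q t x, fun x => divT_smul KA q t x⟩

/-- The map on presentations. -/
def Phi (R : Type u) [CommRing R] [Algebra A R] (v : Nq KA q →ₗ[A] M) :
    FreeMod A a n ⊗[A] R →ₗ[A] M ⊗[A] R :=
  (v ∘ₗ (toNq KA q).restrictScalars A).rTensor R

/-- An element vanishing after the map vanishes near the point in the closed fibre. -/
theorem exists_residue_vanish [IsLocalRing A] (v : Nq KA q →ₗ[A] M)
    (hv : Function.Injective (v.lTensor (IsLocalRing.ResidueField A)))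
    {W : Type u} [CommRing W] [IsLocalRing W] [Algebra A W]
    (hm : ∀ x ∈ IsLocalRing.maximalIdeal A, algebraMap A W x ∈ IsLocalRing.maximalIdeal W)
    (ζ : FreeMod A a n ⊗[A] W) (hW : Phi KA q W v ζ = 0) :
    ∃ t' ∈ q.primeCompl,
      MvPolynomial.map (algebraMap A W) t' • extMap W ζ ∈ locN W KA ⊔ cf (IsLocalRing.maximalIdeal W) := by
  classical
  let κ₀ := IsLocalRing.ResidueField A
  let k := IsLocalRing.ResidueField W
  let ψ : κ₀ →+* k := Ideal.Quotient.lift _ (algebraMap A k) fun x hx => by
    rw [IsScalarTower.algebraMap_apply A W k]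
    exact Ideal.Quotient.eq_zero_iff_mem.mpr (hm x hx)
  letI : Algebra κ₀ k := ψ.toAlgebra
  haveI : IsScalarTower A κ₀ k := .of_algebraMap_eq fun _ => rfl
  let ρk : W →ₗ[A] k := (IsScalarTower.toAlgHom A W k).toLinearMap
  have hk : Phi KA q k v (ρk.lTensor _ ζ) = 0 := by
    have hn : Phi KA q k v (ρk.lTensor _ ζ) = ρk.lTensor M (Phi KA q W v ζ) := by
      rw [Phi, Phi, ← LinearMap.comp_apply, ← LinearMap.comp_apply, LinearMap.rTensor_comp_lTensor,
        LinearMap.lTensor_comp_rTensor]
    rw [hn, hW, map_zero]
  have hvk : Function.Injective (v.rTensor k) := rTensor_injective_of_field κ₀ k v hv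
  let gk := AlgebraTensorModule.rTensor A k (LocalizedModule.mkLinearMap q.primeCompl (FreeMod A a n ⧸ KA))
  let π := AlgebraTensorModule.rTensor A k KA.mkQ
  have h0 : gk (π (ρk.lTensor _ ζ)) = 0 := by
    refine hvk ?_
    rw [map_zero, ← hk]
    generalize ρk.lTensor (FreeMod A a n) ζ = z
    induction z using TensorProduct.induction_on with
    | zero => simp
    | tmul x l => rfl
    | add x y hx hy => simp only [map_add, hx, hy]
  obtain ⟨⟨t', ht'⟩, ht'0⟩ := (IsLocalizedModule.eq_zero_iff q.primeCompl gk).mp h0
  have h1 : π (t' • ρk.lTensor _ ζ) = 0 := by rw [map_smul]; exact ht'0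
  have h2 := extMap_mem_of_rTensor_mkQ k KA h1
  have hextk : extMap k (ρk.lTensor _ ζ) = phi k (extMap W ζ) := by
    clear hW hk h0 h1 h2 ht'0
    induction ζ using TensorProduct.induction_on with
    | zero => simp
    | tmul p r =>
      rw [LinearMap.lTensor_tmul, extMap_tmul, extMap_tmul, LinearMap.map_smul, phi_phi]
      exact algebraMap_smul k r _
    | add x y hx hy => simp only [map_add, hx, hy]
  have hmap : ∀ p : MvPolynomial (Fin n) A, MvPolynomial.map (algebraMap W k)
      (MvPolynomial.map (algebraMap A W) p) = MvPolynomial.map (algebraMap A k) p := fun p => by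
    rw [MvPolynomial.map_map, ← IsScalarTower.algebraMap_eq]
  rw [extMap_smul, hextk, ← hmap, ← phi_smul, ← locN_locN W KA] at h2
  have h3 := mem_sup_cf_of_phi (A := k) IsLocalRing.residue_surjective (locN W KA) h2
  rw [show RingHom.ker (algebraMap W k) = IsLocalRing.maximalIdeal W from IsLocalRing.ker_residue] at h3
  exact ⟨t', ht', h3⟩

/-- The kernel element divided by a scalar vanishes at the closed point. -/
theorem exists_vanish [IsLocalRing A] [Module.Flat A M] (u : Nq KA q →ₗ[A] M)
    (hu : Function.Injective (u.lTensor (IsLocalRing.ResidueField A)))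
    {L : Type u} [Field L] [Algebra A L] (W : ValuationSubring L)
    (hA : ∀ x : A, algebraMap A L x ∈ W)
    (hm : ∀ x ∈ IsLocalRing.maximalIdeal A, algebraMap A L x ∈ W.nonunits)
    (fL : FreeMod L a n) (hker : ∀ z, extMap L z = fL → Phi KA q L u z = 0)
    (t : q.primeCompl) {c : L} (hc : c ≠ 0) (g : FreeMod L a n) (hg : VecIn W g)
    (h : MvPolynomial.map (algebraMap A L) (t : MvPolynomial (Fin n) A) • fL - c • g ∈ locN L KA) :
    ∃ t' ∈ q.primeCompl, ∃ w, VecNon W w ∧ MvPolynomial.map (algebraMap A L) t' • g - w ∈ locN L KA := by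
  classical
  letI : Algebra A W := ((algebraMap A L).codRestrict W.toSubring hA).toAlgebra
  haveI : IsScalarTower A W L := .of_algebraMap_eq fun _ => rfl
  obtain ⟨g', rfl⟩ := hg.exists_phi
  obtain ⟨ζ, hζ⟩ := extMap_surjective (A := A) (R := W) g'
  obtain ⟨zL, hzL⟩ := extMap_surjective (A := A) (R := L) fL
  let v : Nq KA q →ₗ[A] M := u ∘ₗ (divT KA q t).restrictScalars A
  -- naturality
  let ρ : W →ₗ[A] L := (IsScalarTower.toAlgHom A W L).toLinearMap
  have hnat : ∀ {R R' : Type u} [CommRing R] [CommRing R'] [Algebra A R] [Algebra A R'] (φ : R →ₗ[A] R') z,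
      Phi KA q R' v (φ.lTensor _ z) = φ.lTensor M (Phi KA q R v z) := by
    intro R R' _ _ _ _ φ z
    rw [Phi, Phi, ← LinearMap.comp_apply, ← LinearMap.comp_apply, LinearMap.rTensor_comp_lTensor,
      LinearMap.lTensor_comp_rTensor]
  have hextL : extMap L (ρ.lTensor _ ζ) = phi L g' := by
    rw [← hζ]
    clear hζ
    induction ζ using TensorProduct.induction_on with
    | zero => simp
    | tmul p r =>
      rw [LinearMap.lTensor_tmul, extMap_tmul, extMap_tmul, LinearMap.map_smul, phi_phi]
      exact algebraMap_smul L r _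
    | add x y hx hy => simp only [map_add, hx, hy]
  -- vanishing over `L`
  have hL : Phi KA q L v (ρ.lTensor _ ζ) = 0 := by
    have h0 : (KA.mkQ.restrictScalars A).rTensor L
        ((t : MvPolynomial (Fin n) A) • zL - mulR _ c (ρ.lTensor _ ζ)) = 0 :=
      rTensor_mkQ_eq_zero L KA (by rwa [map_sub, extMap_smul, extMap_mulR, hzL, hextL])
    have h1 : Phi KA q L v ((t : MvPolynomial (Fin n) A) • zL - mulR _ c (ρ.lTensor _ ζ)) = 0 := by
      rw [Phi, show v ∘ₗ (toNq KA q).restrictScalars A =
        (v ∘ₗ (LocalizedModule.mkLinearMap q.primeCompl (FreeMod A a n ⧸ KA)).restrictScalars A) ∘ₗ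
          KA.mkQ.restrictScalars A from rfl, LinearMap.rTensor_comp, LinearMap.comp_apply, h0, map_zero]
    have h2 : ∀ z, Phi KA q L v ((t : MvPolynomial (Fin n) A) • z) = Phi KA q L u z := fun z => by
      induction z using TensorProduct.induction_on with
      | zero => simp
      | tmul x l =>
        rw [TensorProduct.smul_tmul']
        simp only [Phi, LinearMap.rTensor_tmul, v, LinearMap.comp_apply, LinearMap.coe_restrictScalars,
          map_smul, smul_divT]
      | add x y hx hy => simp only [map_add, smul_add, hx, hy]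
    have h3 : ∀ z, Phi KA q L v (mulR _ c z) = mulR M c (Phi KA q L v z) := fun z => hnat _ z
    rw [map_sub, h2, hker zL hzL, zero_sub, neg_eq_zero, h3] at h1
    have h4 := congrArg (mulR M c⁻¹) h1
    rw [map_zero, ← LinearMap.comp_apply, ← LinearMap.lTensor_comp,
      show LinearMap.mulLeft A c⁻¹ ∘ₗ LinearMap.mulLeft A c = LinearMap.id from
        LinearMap.ext fun x => by simp [← mul_assoc, inv_mul_cancel₀ hc],
      LinearMap.lTensor_id, LinearMap.id_apply] at h4
    exact h4
  have hW : Phi KA q W v ζ = 0 := by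
    have hinj : Function.Injective (ρ.lTensor M) :=
      Module.Flat.lTensor_preserves_injective_linearMap ρ Subtype.val_injective
    refine hinj ?_
    rw [map_zero, ← hnat, hL]
  -- injectivity over the residue field
  have hv : Function.Injective (v.lTensor (IsLocalRing.ResidueField A)) := by
    rw [LinearMap.lTensor_comp]
    refine hu.comp ?_
    exact (LinearEquiv.lTensor _ (LinearEquiv.ofBijective ((divT KA q t).restrictScalars A)
      (divT_bijective KA q t))).injective
  obtain ⟨t', ht', h3⟩ := exists_residue_vanish KA q v hv (W := W)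
    (fun x hx => ValuationSubring.coe_mem_nonunits_iff.mp (hm x hx)) ζ hW
  rw [hζ] at h3
  obtain ⟨x, hx, w, hw, hxw⟩ := Submodule.mem_sup.mp h3
  refine ⟨t', ht', phi L w, vecNon_phi hw, ?_⟩
  have hmapL : MvPolynomial.map (algebraMap A L) t' =
      MvPolynomial.map (algebraMap W L) (MvPolynomial.map (algebraMap A W) t') := by
    rw [MvPolynomial.map_map, ← IsScalarTower.algebraMap_eq]
  rw [hmapL, ← phi_smul, ← map_sub, ← eq_sub_of_add_eq hxw, ← locN_locN W KA]
  exact phi_mem L _ hx

end Groth.Agent.UILLib
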