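import Groth.Agent.RGFlatLib.SatFG
import Groth.Agent.RGFlatLib.Basic
import Groth.Agent.UnivInjFib.Main
import Mathlib

/-!
# Content of an element over a valuation ring modulo an element with full radical

For a saturated submodule `S` of a free module over `W[x]` and a point `Q` of the closed fibre, a
vector is, modulo `D` and up to a factor not vanishing at `Q`, a scalar times a vector which does not
vanish at `Q`.
-/

set_option autoImplicit false
set_option linter.style.haveILetI false
set_option linter.unusedSectionVars false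
set_option maxHeartbeats 1000000
set_option backward.isDefEq.respectTransparency false

universe u

open MvPolynomial TensorProduct Groth.Agent.GenFree Groth.Agent.FlatLocus Groth.Agent.RGFlatLib

noncomputable section

namespace Groth.Agent.UILLib

/-- A flat base change detects injectivity at ideals. -/
theorem lTensor_subtype_injective_of_flat {A₁ R X : Type u} [CommRing A₁] [CommRing R] [Algebra A₁ R]
    [AddCommGroup X] [Module A₁ X] [Module.Flat R (R ⊗[A₁] X)] (I : Ideal R) :
    Function.Injective ((I.restrictScalars A₁).subtype.lTensor X) := by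
  have h := Module.Flat.rTensor_preserves_injective_linearMap (M := R ⊗[A₁] X) I.subtype I.subtype_injective
  rw [LinearMap.lTensor_inj_iff_rTensor_inj]
  let e₁ := AlgebraTensorModule.cancelBaseChange A₁ R R I X
  let e₂ := AlgebraTensorModule.cancelBaseChange A₁ R R R X
  have hcomm : ∀ z, (I.restrictScalars A₁).subtype.rTensor X (e₁ z) = e₂ (I.subtype.rTensor _ z) := fun z => by
    induction z using TensorProduct.induction_on with
    | zero => simp
    | tmul c w =>
      induction w using TensorProduct.induction_on with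
      | zero => simp
      | tmul r x => simp [e₁, e₂]
      | add x y hx hy => simp only [TensorProduct.tmul_add, map_add, hx, hy]
    | add x y hx hy => simp only [map_add, hx, hy]
  intro x y hxy
  obtain ⟨x, rfl⟩ := e₁.surjective x
  obtain ⟨y, rfl⟩ := e₁.surjective y
  rw [hcomm, hcomm] at hxy
  exact congrArg e₁ (h (e₂.injective hxy))

/-- A flat base change from injectivity at ideals. -/
theorem flat_of_lTensor_subtype_injective {A₁ R X : Type u} [CommRing A₁] [CommRing R] [Algebra A₁ R]
    [AddCommGroup X] [Module A₁ X]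
    (h : ∀ I : Ideal R, Function.Injective ((I.restrictScalars A₁).subtype.lTensor X)) :
    Module.Flat R (R ⊗[A₁] X) := by
  rw [Module.Flat.iff_rTensor_injective']
  intro I
  let e₁ := AlgebraTensorModule.cancelBaseChange A₁ R R I X
  let e₂ := AlgebraTensorModule.cancelBaseChange A₁ R R R X
  have hcomm : ∀ z, (I.restrictScalars A₁).subtype.rTensor X (e₁ z) = e₂ (I.subtype.rTensor _ z) := fun z => by
    induction z using TensorProduct.induction_on with
    | zero => simp
    | tmul c w =>
      induction w using TensorProduct.induction_on with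
      | zero => simp
      | tmul r x => simp [e₁, e₂]
      | add x y hx hy => simp only [TensorProduct.tmul_add, map_add, hx, hy]
    | add x y hx hy => simp only [map_add, hx, hy]
  have h' := (LinearMap.lTensor_inj_iff_rTensor_inj X _).mp (h I)
  intro x y hxy
  refine e₁.injective (h' ?_)
  rw [hcomm, hcomm, hxy]

variable {W : Type u} [CommRing W] [IsDomain W] [ValuationRing W] {a n : ℕ}

/-- The quotient by a saturated submodule is flat. -/
theorem flat_quotient_of_saturated {S : Submodule (MvPolynomial (Fin n) W) (FreeMod W a n)}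
    (hS : satW S ≤ S) : Module.Flat W (FreeMod W a n ⧸ S) := by
  rw [Module.Flat.flat_iff_torsion_eq_bot_of_isBezout, eq_bot_iff]
  intro x hx
  obtain ⟨x, rfl⟩ := Submodule.Quotient.mk_surjective _ x
  obtain ⟨⟨w, hw⟩, hwx⟩ := hx
  rw [Submonoid.smul_def, ← Submodule.Quotient.mk_smul, Submodule.Quotient.mk_eq_zero] at hwx
  refine (Submodule.mem_bot W).mpr ((Submodule.Quotient.mk_eq_zero _).mpr (hS ?_))
  refine mem_satW.mpr ⟨w, nonZeroDivisors.ne_zero hw, ?_⟩
  rw [show (C w : MvPolynomial (Fin n) W) • x = w • x from algebraMap_smul _ w x]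
  exact hwx

/-- Saturated submodules are finitely generated. -/
theorem fg_of_saturated {S : Submodule (MvPolynomial (Fin n) W) (FreeMod W a n)} (hS : satW S ≤ S) : S.FG := by
  rw [← le_antisymm hS (le_sat _ _)]
  exact satW_fg S

/-- One polynomial outside a prime kills everything vanishing at the prime. -/
theorem exists_killer {k : Type u} [Field k] (N : Submodule (MvPolynomial (Fin n) k) (FreeMod k a n))
    (Q : Ideal (MvPolynomial (Fin n) k)) [Q.IsPrime] :
    ∃ s ∉ Q, ∀ h, ∀ t ∉ Q, t • h ∈ N → s • h ∈ N := by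
  classical
  obtain ⟨G, hG⟩ : (Sat Q.primeCompl N).FG := IsNoetherian.noetherian _
  have hmem : ∀ g ∈ G, g ∈ Sat Q.primeCompl N := fun g hg => hG ▸ Submodule.subset_span hg
  choose! t ht htg using fun g hg => mem_sat.mp (hmem g hg)
  refine ⟨∏ g ∈ G, t g, Q.primeCompl.prod_mem fun g hg => ht g hg, fun h u hu huh => ?_⟩
  have hh : h ∈ Sat Q.primeCompl N := mem_sat.mpr ⟨u, hu, huh⟩
  rw [← hG] at hh
  clear huh
  induction hh using Submodule.span_induction with
  | mem x hx =>
    rw [← Finset.prod_erase_mul _ _ hx, mul_smul]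
    exact N.smul_mem _ (htg x hx)
  | zero => rw [smul_zero]; exact zero_mem _
  | add x y _ _ hx hy => rw [smul_add]; exact add_mem hx hy
  | smul c x _ hx => rw [smul_comm]; exact N.smul_mem _ hx

/-- The multiplication by a scalar on the right factor. -/
abbrev mulR {A₁ R : Type u} [CommRing A₁] [CommRing R] [Algebra A₁ R] (X : Type u) [AddCommGroup X]
    [Module A₁ X] (c : R) : X ⊗[A₁] R →ₗ[A₁] X ⊗[A₁] R :=
  (LinearMap.mulLeft A₁ c).lTensor X

theorem comm_smul {A₁ R : Type u} [CommRing A₁] [CommRing R] [Algebra A₁ R] {X : Type u} [AddCommGroup X]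
    [Module A₁ X] (c : R) (e : R ⊗[A₁] X) :
    TensorProduct.comm A₁ R X (c • e) = mulR X c (TensorProduct.comm A₁ R X e) := by
  induction e using TensorProduct.induction_on with
  | zero => simp
  | tmul r x => simp [mulR, TensorProduct.smul_tmul']
  | add x y hx hy => simp only [smul_add, map_add, hx, hy]

theorem extMap_mulR {A₁ R : Type u} [CommRing A₁] [CommRing R] [Algebra A₁ R] (c : R)
    (z : FreeMod A₁ a n ⊗[A₁] R) : extMap R (mulR _ c z) = c • extMap R z := by
  induction z using TensorProduct.induction_on with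
  | zero => simp
  | tmul v r => simp [mulR, mul_smul]
  | add x y hx hy => simp only [map_add, smul_add, hx, hy]

/-- A vector with coefficients from a ring is the image of a vector over that ring. -/
theorem exists_phi_eq {A B : Type u} [CommRing A] [CommRing B] [Algebra A B] (g : FreeMod B a n)
    (h : ∀ i, ∃ x : A, algebraMap A B x = co i g) : ∃ g₁ : FreeMod A a n, phi B g₁ = g := by
  classical
  choose x hx using h
  refine ⟨∑ i ∈ (finite_support g).toFinset, x i • single i, ?_⟩
  have h1 : ∀ i, phi B (x i • single i : FreeMod A a n) = co i g • single i := fun i => by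
    rw [map_smul, phi_single, ← hx i, algebraMap_smul]
  simp only [map_sum, h1]
  exact (eq_sum_single g fun i hi => (finite_support g).mem_toFinset.mpr hi).symm

/-- A polynomial with coefficients in a subalgebra comes from the subalgebra. -/
theorem exists_map_eq' {B : Type u} [CommRing B] (S : Subalgebra ℤ B) (s : MvPolynomial (Fin n) B)
    (h : ∀ m, coeff m s ∈ S) : ∃ s₁, MvPolynomial.map (algebraMap S B) s₁ = s := by
  classical
  refine ⟨∑ m ∈ s.support, monomial m (⟨coeff m s, h m⟩ : S), ?_⟩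
  rw [map_sum]
  simp only [map_monomial]
  exact s.as_sum.symm

/-- The localization of a presented module, as a base change. -/
abbrev locBC {A₁ : Type u} [CommRing A₁] (R : Type u) [CommRing R] [Algebra A₁ R]
    (S₁ : Submodule (MvPolynomial (Fin n) A₁) (FreeMod A₁ a n)) (s₁ : MvPolynomial (Fin n) A₁) : Type u :=
  R ⊗[A₁] LocalizedModule (Submonoid.powers s₁) (FreeMod A₁ a n ⧸ S₁)

/-- The localized base change over a zero-dimensional local ring is free. -/
theorem free_locBC {A₁ R : Type u} [CommRing A₁] [CommRing R] [Algebra A₁ R] [IsNoetherianRing A₁]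
    (S₁ : Submodule (MvPolynomial (Fin n) A₁) (FreeMod A₁ a n)) (s₁ : MvPolynomial (Fin n) A₁)
    (p₁ : Ideal A₁) [p₁.IsPrime] (hnil : ∀ x ∈ p₁, IsNilpotent (algebraMap A₁ R x))
    (hunit : ∀ x ∉ p₁, IsUnit (algebraMap A₁ R x)) [Module.Flat R (R ⊗[A₁] (FreeMod A₁ a n ⧸ S₁))] :
    Module.Free R (locBC R S₁ s₁) := by
  let T₁ := Submonoid.powers s₁
  let mk := LocalizedModule.mkLinearMap T₁ (FreeMod A₁ a n ⧸ S₁)
  haveI : Module.Flat R (locBC R S₁ s₁) := flat_of_lTensor_subtype_injective fun I =>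
    injective_localized (I.restrictScalars A₁) T₁ mk fun z hz =>
      ⟨1, T₁.one_mem, by
        rw [one_smul]
        exact lTensor_subtype_injective_of_flat (R := R) (X := FreeMod A₁ a n ⧸ S₁) I (hz.trans (map_zero _).symm)⟩
  let J : Ideal R := p₁.map (algebraMap A₁ R)
  have hJfg : J.FG := Ideal.FG.map (IsNoetherian.noetherian p₁) _
  have hJ : IsNilpotent J := (Ideal.FG.isNilpotent_iff_le_nilradical hJfg).mpr
    (Ideal.map_le_iff_le_comap.mpr fun x hx => hnil x hx)
  haveI : Module.Free (R ⧸ J) ((R ⧸ J) ⊗[R] locBC R S₁ s₁) :=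
    UnivInjFib.free_tensor_of_factor (LinearEquiv.refl R _) p₁ (R ⧸ J)
      (fun x hx => by
        rw [IsScalarTower.algebraMap_apply A₁ R (R ⧸ J)]
        exact Ideal.Quotient.eq_zero_iff_mem.mpr (Ideal.mem_map_of_mem _ hx))
      (fun x hx => by
        rw [IsScalarTower.algebraMap_apply A₁ R (R ⧸ J)]
        exact (hunit x hx).map _)
  exact UnivInjFib.free_of_nilpotent J hJ

variable (R k : Type u) [CommRing R] [CommRing k] in
/-- In a free localized base change a nonzero element is a multiple of one with nonzero reduction. -/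
theorem exists_content_tensor {A₁ : Type u} [CommRing A₁] [Algebra A₁ R] [Algebra A₁ k] [Algebra R k]
    [IsScalarTower A₁ R k] [Nontrivial k]
    (S₁ : Submodule (MvPolynomial (Fin n) A₁) (FreeMod A₁ a n)) (s₁ : MvPolynomial (Fin n) A₁)
    [Module.Free R (locBC R S₁ s₁)] (htot : ∀ a b : R, a ∣ b ∨ b ∣ a) (x : FreeMod A₁ a n ⊗[A₁] R) :
    let gR := AlgebraTensorModule.rTensor A₁ R (LocalizedModule.mkLinearMap (Submonoid.powers s₁) (FreeMod A₁ a n ⧸ S₁))
    let π := AlgebraTensorModule.rTensor A₁ R S₁.mkQ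
    gR (π x) = 0 ∨ ∃ (c : R) (ξ : FreeMod A₁ a n ⊗[A₁] R) (j : ℕ),
      gR (π (s₁ ^ j • x - mulR _ c ξ)) = 0 ∧
      ∀ i : ℕ, AlgebraTensorModule.rTensor A₁ k S₁.mkQ
        (s₁ ^ i • (IsScalarTower.toAlgHom A₁ R k).toLinearMap.lTensor _ ξ) ≠ 0 := by
  classical
  intro gR π
  let T₁ := Submonoid.powers s₁
  let G := locBC R S₁ s₁
  let cm := TensorProduct.comm A₁ R (LocalizedModule T₁ (FreeMod A₁ a n ⧸ S₁))
  let β := Module.Free.chooseBasis R G
  let y : G := cm.symm (gR (π x))
  have hy : cm y = gR (π x) := cm.apply_symm_apply _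
  by_cases hy0 : y = 0
  · exact Or.inl (by rw [← hy, hy0, map_zero])
  have hne : (β.repr y).support.Nonempty := Finsupp.support_nonempty_iff.mpr fun h =>
    hy0 (β.repr.injective (h.trans (map_zero _).symm))
  obtain ⟨i₀, hi₀, hmin⟩ : ∃ i₀ ∈ (β.repr y).support, ∀ i ∈ (β.repr y).support, β.repr y i₀ ∣ β.repr y i := by
    have : ∀ t : Finset _, t.Nonempty → ∃ i₀ ∈ t, ∀ i ∈ t, β.repr y i₀ ∣ β.repr y i := fun t ht => by
      induction ht using Finset.Nonempty.cons_induction with
      | singleton i => exact ⟨i, by simp, by simp⟩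
      | cons i t hi _ ih =>
        obtain ⟨i₀, hi₀, hd⟩ := ih
        rcases htot (β.repr y i₀) (β.repr y i) with h | h
        · exact ⟨i₀, by simp [hi₀], fun j hj => (Finset.mem_cons.mp hj).elim (fun e => e ▸ h) (hd j)⟩
        · exact ⟨i, by simp, fun j hj => (Finset.mem_cons.mp hj).elim (fun e => e ▸ dvd_rfl)
            fun hj => h.trans (hd j hj)⟩
    exact this _ hne
  choose! d hd using hmin
  let e : G := β i₀ + ∑ i ∈ (β.repr y).support.erase i₀, d i • β i
  have hye : y = β.repr y i₀ • e := by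
    conv_lhs => rw [← β.linearCombination_repr y, Finsupp.linearCombination_apply, Finsupp.sum,
      ← Finset.add_sum_erase _ _ hi₀]
    simp only [e, smul_add, Finset.smul_sum, smul_smul]
    exact congrArg _ (Finset.sum_congr rfl fun i hi => by rw [← hd i (Finset.mem_of_mem_erase hi)])
  have hei : β.repr e i₀ = 1 := by
    simp only [e, map_add, map_sum, map_smul, Module.Basis.repr_self, Finsupp.add_apply,
      Finsupp.finsetSum_apply, Finsupp.smul_apply, Finsupp.single_eq_same]
    rw [Finset.sum_eq_zero fun i hi => by rw [Finsupp.single_eq_of_ne (Finset.ne_of_mem_erase hi).symm, smul_zero],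
      add_zero]
  obtain ⟨⟨xe, ⟨_, j, rfl⟩⟩, hxe⟩ := IsLocalizedModule.surj T₁ gR (cm e)
  have hxe' : (s₁ ^ j) • cm e = gR xe := hxe
  obtain ⟨ξ, rfl⟩ : ∃ ξ, π ξ = xe := LinearMap.rTensor_surjective R (g := S₁.mkQ.restrictScalars A₁) S₁.mkQ_surjective xe
  refine Or.inr ⟨β.repr y i₀, ξ, j, ?_, fun i h0 => ?_⟩
  · have hnat : ∀ z : FreeMod A₁ a n ⊗[A₁] R, gR (π (mulR _ (β.repr y i₀) z)) =
        mulR _ (β.repr y i₀) (gR (π z)) := fun z => by
      induction z using TensorProduct.induction_on with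
      | zero => simp
      | tmul v r => rfl
      | add x y hx hy => simp only [map_add, hx, hy]
    have hsm : ∀ z, mulR (A₁ := A₁) (R := R) _ (β.repr y i₀) ((s₁ ^ j) • z) = (s₁ ^ j) • mulR (LocalizedModule T₁ (FreeMod A₁ a n ⧸ S₁)) (β.repr y i₀) z := fun z => by
      induction z using TensorProduct.induction_on with
      | zero => simp
      | tmul v r => rfl
      | add x y hx hy => simp only [map_add, smul_add, hx, hy]
    rw [map_sub, map_sub, map_smul, map_smul, hnat, ← hxe', hsm, ← hy]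
    conv_lhs => arg 1; arg 2; rw [hye, comm_smul]
    exact sub_self _
  let gk := AlgebraTensorModule.rTensor A₁ k (LocalizedModule.mkLinearMap T₁ (FreeMod A₁ a n ⧸ S₁))
  let ρ₀ : R →ₗ[A₁] k := (IsScalarTower.toAlgHom A₁ R k).toLinearMap
  have he0 : ρ₀.lTensor _ (cm e) = 0 := by
    have hu := IsLocalizedModule.map_units gk ⟨s₁ ^ i * s₁ ^ j, T₁.mul_mem ⟨i, rfl⟩ ⟨j, rfl⟩⟩
    apply ((Module.End.isUnit_iff _).mp hu).1
    rw [map_zero, Module.algebraMap_end_apply, mul_smul]
    have hsm : ∀ (p : MvPolynomial (Fin n) A₁) (z : LocalizedModule T₁ (FreeMod A₁ a n ⧸ S₁) ⊗[A₁] R),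
        p • ρ₀.lTensor _ z = ρ₀.lTensor _ (p • z) := fun p z => by
      induction z using TensorProduct.induction_on with
      | zero => simp
      | tmul v r => rfl
      | add x y hx hy => simp only [map_add, smul_add, hx, hy]
    have hnat : ∀ z : FreeMod A₁ a n ⊗[A₁] R, ρ₀.lTensor _ (gR (π z)) =
        gk (AlgebraTensorModule.rTensor A₁ k S₁.mkQ (ρ₀.lTensor _ z)) := fun z => by
      induction z using TensorProduct.induction_on with
      | zero => simp
      | tmul v r => rfl
      | add x y hx hy => simp only [map_add, hx, hy]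
    rw [hsm (s₁ ^ j), hxe', hnat, ← map_smul, ← map_smul, h0, map_zero]
  let φ : k ⊗[R] G →ₗ[R] k := (TensorProduct.rid R k).toLinearMap ∘ₗ (β.coord i₀).lTensor k
  have h1 : φ ((1 : k) ⊗ₜ e) = 1 := by
    simp [φ, hei]
  have h2 : (1 : k) ⊗ₜ[R] e = 0 := by
    apply (AlgebraTensorModule.cancelBaseChange A₁ R R k _).injective
    rw [map_zero]
    apply (TensorProduct.comm A₁ k _).injective
    rw [map_zero, ← he0]
    clear he0 h1 hei hye hxe hxe'
    generalize e = e'
    induction e' using TensorProduct.induction_on with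
    | zero => simp
    | tmul r x =>
      show x ⊗ₜ[A₁] (r • (1 : k)) = x ⊗ₜ[A₁] (algebraMap R k r)
      rw [Algebra.smul_def, mul_one]
    | add x y hx hy => simp only [TensorProduct.tmul_add, map_add, hx, hy]
  rw [h2, map_zero] at h1
  exact zero_ne_one h1

/-- A base change of a saturated quotient is flat. -/
theorem flat_baseChange_presented {A₁ : Type u} [CommRing A₁] [Algebra A₁ W]
    (S₁ : Submodule (MvPolynomial (Fin n) A₁) (FreeMod A₁ a n))
    {S : Submodule (MvPolynomial (Fin n) W) (FreeMod W a n)} (h : locN W S₁ = S) (hS : satW S ≤ S)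
    (R : Type u) [CommRing R] [Algebra W R] [Algebra A₁ R] [IsScalarTower A₁ W R] :
    Module.Flat R (R ⊗[A₁] (FreeMod A₁ a n ⧸ S₁)) := by
  obtain ⟨e⟩ := UnivInjFib.exists_baseChange_equiv (A := W) S₁
  subst h
  haveI : Module.Flat W (FreeMod W a n ⧸ locN W S₁) := flat_quotient_of_saturated hS
  haveI : Module.Flat W (W ⊗[A₁] (FreeMod A₁ a n ⧸ S₁)) := Module.Flat.of_linearEquiv e
  exact Module.Flat.of_linearEquiv (AlgebraTensorModule.cancelBaseChange A₁ W R R (FreeMod A₁ a n ⧸ S₁)).symm

/-- The content of a vector, from data over a Noetherian ring. -/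
theorem exists_content_desc {A₁ : Type u} [CommRing A₁] [IsNoetherianRing A₁] [Algebra A₁ W]
    (R k : Type u) [CommRing R] [Field k] [Algebra W R] [Algebra W k] [Algebra R k] [IsScalarTower W R k]
    [Algebra A₁ R] [IsScalarTower A₁ W R] [Algebra A₁ k] [IsScalarTower A₁ W k]
    (hsurj : Function.Surjective (algebraMap W R))
    {D : W} (hker : RingHom.ker (algebraMap W R) = Ideal.span {D})
    (hD : ∀ z ∈ IsLocalRing.maximalIdeal W, ∃ k : ℕ, D ∣ z ^ k)
    (hkm : RingHom.ker (algebraMap W k) = IsLocalRing.maximalIdeal W)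
    (S : Submodule (MvPolynomial (Fin n) W) (FreeMod W a n)) (hS : satW S ≤ S)
    (S₁ : Submodule (MvPolynomial (Fin n) A₁) (FreeMod A₁ a n)) (hS₁ : locN W S₁ = S)
    (g : FreeMod W a n) (g₁ : FreeMod A₁ a n) (hg₁ : phi W g₁ = g)
    (s : MvPolynomial (Fin n) W) (s₁ : MvPolynomial (Fin n) A₁)
    (hs₁ : MvPolynomial.map (algebraMap A₁ W) s₁ = s)
    (Q : Ideal (MvPolynomial (Fin n) k)) [Q.IsPrime] (hskQ : MvPolynomial.map (algebraMap W k) s ∉ Q)
    (hkill : ∀ h, ∀ t ∉ Q, t • h ∈ locN k S → MvPolynomial.map (algebraMap W k) s • h ∈ locN k S) :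
    ∃ s : MvPolynomial (Fin n) W, MvPolynomial.map (algebraMap W k) s ∉ Q ∧
      ((s • g ∈ S ⊔ cf (Ideal.span {D})) ∨ ∃ (c : W) (g' : FreeMod W a n), c ∣ D ∧
        s • g - (C c : MvPolynomial (Fin n) W) • g' ∈ S ⊔ cf (Ideal.span {D}) ∧
        ∀ s₂ : MvPolynomial (Fin n) W, MvPolynomial.map (algebraMap W k) s₂ ∉ Q →
          s₂ • g' ∉ S ⊔ cf (IsLocalRing.maximalIdeal W)) := by
  classical
  haveI : IsScalarTower A₁ R k := .of_algebraMap_eq fun x => by
    rw [IsScalarTower.algebraMap_apply A₁ W k, IsScalarTower.algebraMap_apply A₁ W R, ← IsScalarTower.algebraMap_apply W R k]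
  haveI hflatX := flat_baseChange_presented S₁ hS₁ hS R
  haveI : Module.Free R (locBC R S₁ s₁) := by
    refine free_locBC S₁ s₁ ((IsLocalRing.maximalIdeal W).comap (algebraMap A₁ W)) (fun x hx => ?_) fun x hx => ?_
    · obtain ⟨j, hj⟩ := hD _ hx
      refine ⟨j, ?_⟩
      rw [IsScalarTower.algebraMap_apply A₁ W R, ← map_pow]
      rw [← RingHom.mem_ker, hker]
      exact Ideal.mem_span_singleton.mpr hj
    · rw [IsScalarTower.algebraMap_apply A₁ W R]
      exact (IsLocalRing.notMem_maximalIdeal.mp hx).map _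
  have hmapR : ∀ p : MvPolynomial (Fin n) A₁, MvPolynomial.map (algebraMap W R)
      (MvPolynomial.map (algebraMap A₁ W) p) = MvPolynomial.map (algebraMap A₁ R) p := fun p => by
    rw [MvPolynomial.map_map, ← IsScalarTower.algebraMap_eq]
  have hsm : ∀ (p : MvPolynomial (Fin n) A₁) (v : FreeMod W a n),
      MvPolynomial.map (algebraMap A₁ R) p • phi R v = phi R (MvPolynomial.map (algebraMap A₁ W) p • v) := fun p v => by
    rw [phi_smul, hmapR]
  have hCc : ∀ (c : W) (v : FreeMod W a n), (C c : MvPolynomial (Fin n) W) • v = c • v := fun c v =>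
    algebraMap_smul _ c v
  have hξg : extMap R (g₁ ⊗ₜ (1 : R)) = phi R g := by
    rw [extMap_tmul, one_smul, ← hg₁, phi_phi]
  have hsQ : ∀ j : ℕ, MvPolynomial.map (algebraMap W k) (s ^ j) ∉ Q := fun j => by
    rw [map_pow]
    exact Q.primeCompl.pow_mem hskQ j
  let gR := AlgebraTensorModule.rTensor A₁ R (LocalizedModule.mkLinearMap (Submonoid.powers s₁) (FreeMod A₁ a n ⧸ S₁))
  let π := AlgebraTensorModule.rTensor A₁ R S₁.mkQ
  have hzero : ∀ (v : FreeMod W a n) (ξ : FreeMod A₁ a n ⊗[A₁] R), extMap R ξ = phi R v →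
      gR (π ξ) = 0 → ∃ j : ℕ, s ^ j • v ∈ S ⊔ cf (Ideal.span {D}) := fun v ξ hξ h0 => by
    obtain ⟨⟨_, j, rfl⟩, hj⟩ := (IsLocalizedModule.eq_zero_iff (Submonoid.powers s₁) gR).mp h0
    refine ⟨j, ?_⟩
    have h1 : π ((s₁ ^ j) • ξ) = 0 := by rw [map_smul]; exact hj
    have h2 := extMap_mem_of_rTensor_mkQ R S₁ h1
    rw [extMap_smul, hξ, hsm, map_pow, hs₁, ← locN_locN W S₁, hS₁] at h2
    have h3 := mem_sup_cf_of_phi (A := R) hsurj S h2
    rwa [hker] at h3
  have htot : ∀ a b : R, a ∣ b ∨ b ∣ a := fun a b => by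
    obtain ⟨a, rfl⟩ := hsurj a
    obtain ⟨b, rfl⟩ := hsurj b
    exact (ValuationRing.dvd_total a b).imp (map_dvd _) (map_dvd _)
  rcases exists_content_tensor R k S₁ s₁ htot (g₁ ⊗ₜ 1) with h0 | ⟨cR, ξ, j, hgR, hred0⟩
  · obtain ⟨j, hj⟩ := hzero g _ hξg h0
    exact ⟨s ^ j, hsQ j, Or.inl hj⟩
  obtain ⟨g', hg'⟩ : ∃ g' : FreeMod W a n, phi R g' = extMap R ξ := by
    choose v hv using fun i => MvPolynomial.map_surjective (algebraMap W R) hsurj (extMap R ξ i)
    exact ⟨v, funext fun i => by rw [phi_apply]; exact hv i⟩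
  obtain ⟨c, rfl⟩ := hsurj cR
  obtain ⟨i, hi⟩ := hzero (s ^ j • g - (C c : MvPolynomial (Fin n) W) • g') _
    (by
      rw [map_sub, extMap_smul, hξg, extMap_mulR, hsm, map_pow, hs₁, ← hg', map_sub, hCc, LinearMap.map_smul (phi R) c g']
      congr 1
      exact algebraMap_smul R c _) hgR
  refine ⟨s ^ (i + j), hsQ _, ?_⟩
  by_cases hcD : c ∣ D
  swap
  · refine Or.inl ?_
    obtain ⟨b, hb⟩ := (ValuationRing.dvd_total c D).resolve_left hcD
    have h1 : (C c : MvPolynomial (Fin n) W) • (s ^ i • g') ∈ cf (Ideal.span {D}) := mem_cf.mpr fun l => by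
      rw [show (C c : MvPolynomial (Fin n) W) • (s ^ i • g') = c • (s ^ i • g') from algebraMap_smul _ c _,
        map_smul, hb, smul_eq_mul, mul_assoc]
      exact Ideal.mul_mem_right _ _ (Ideal.mem_span_singleton_self D)
    have h2 := add_mem hi (Submodule.mem_sup_right h1)
    rwa [smul_sub, smul_comm (s ^ i) (C c : MvPolynomial (Fin n) W), sub_add_cancel, smul_smul, ← pow_add] at h2
  refine Or.inr ⟨c, s ^ i • g', hcD, ?_, fun s₂ hs₂ hmem => ?_⟩
  · rw [smul_sub, smul_comm (s ^ i) (C c : MvPolynomial (Fin n) W), smul_smul, ← pow_add] at hi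
    exact hi
  have hred : MvPolynomial.map (algebraMap W k) s₂ • phi k (s ^ i • g') ∈ locN k S := by
    rw [← phi_smul]
    exact phi_mem_locN_of_sup k hkm.ge S hmem
  have hred' := hkill _ _ hs₂ hred
  rw [phi_smul, smul_smul, ← map_mul, ← pow_succ'] at hred'
  have hext : ∀ z : FreeMod A₁ a n ⊗[A₁] R,
      extMap k ((IsScalarTower.toAlgHom A₁ R k).toLinearMap.lTensor _ z) = phi k (extMap R z) := fun z => by
    induction z using TensorProduct.induction_on with
    | zero => simp
    | tmul v r =>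
      rw [LinearMap.lTensor_tmul, extMap_tmul, extMap_tmul, map_smul, phi_phi]
      exact algebraMap_smul k r _
    | add x y hx hy => simp only [map_add, hx, hy]
  refine hred0 (i + 1) (rTensor_mkQ_eq_zero k S₁ ?_)
  rw [extMap_smul, hext, ← hg', phi_phi, map_pow, IsScalarTower.algebraMap_eq A₁ W k, ← MvPolynomial.map_map,
    hs₁, ← map_pow, ← locN_locN W S₁, hS₁]
  exact hred'


/-- The content of a vector, computed in the quotient ring. -/
theorem exists_content_aux (R : Type u) [CommRing R] [Algebra W R] [Algebra R (IsLocalRing.ResidueField W)]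
    [IsScalarTower W R (IsLocalRing.ResidueField W)] (hsurj : Function.Surjective (algebraMap W R))
    {D : W} (hker : RingHom.ker (algebraMap W R) = Ideal.span {D}) (hDu : D ∈ IsLocalRing.maximalIdeal W)
    (hD : ∀ z ∈ IsLocalRing.maximalIdeal W, ∃ k : ℕ, D ∣ z ^ k)
    (S : Submodule (MvPolynomial (Fin n) W) (FreeMod W a n)) (hS : satW S ≤ S)
    (Q : Ideal (MvPolynomial (Fin n) (IsLocalRing.ResidueField W))) [Q.IsPrime] (g : FreeMod W a n) :
    ∃ s : MvPolynomial (Fin n) W, MvPolynomial.map (algebraMap W (IsLocalRing.ResidueField W)) s ∉ Q ∧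
      ((s • g ∈ S ⊔ cf (Ideal.span {D})) ∨ ∃ (c : W) (g' : FreeMod W a n), c ∣ D ∧
        s • g - (C c : MvPolynomial (Fin n) W) • g' ∈ S ⊔ cf (Ideal.span {D}) ∧
        ∀ s₂ : MvPolynomial (Fin n) W, MvPolynomial.map (algebraMap W (IsLocalRing.ResidueField W)) s₂ ∉ Q →
          s₂ • g' ∉ S ⊔ cf (IsLocalRing.maximalIdeal W)) := by
  classical
  let k := IsLocalRing.ResidueField W
  let red := locN k S
  obtain ⟨sk, hskQ, hkill⟩ := exists_killer red Q
  obtain ⟨s, rfl⟩ := MvPolynomial.map_surjective (algebraMap W k) IsLocalRing.residue_surjective sk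
  -- descend the data
  obtain ⟨Gs, hGs⟩ := fg_of_saturated hS
  let coefs : Finset W := ((Gs ∪ {g} : Finset (FreeMod W a n))).biUnion (fun v => (finite_support v).toFinset.image fun i => co i v) ∪
    s.support.image fun e => coeff e s
  let A₁ : Subalgebra ℤ W := Algebra.adjoin ℤ (coefs : Set W)
  haveI : IsNoetherianRing A₁ := isNoetherianRing_of_fg (Subalgebra.fg_adjoin_finset coefs)
  have hco : ∀ v ∈ (Gs ∪ {g} : Finset (FreeMod W a n)), ∀ i, ∃ x : A₁, algebraMap A₁ W x = co i v := fun v hv i => by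
    by_cases h0 : co i v = 0
    · exact ⟨0, by rw [map_zero, h0]⟩
    · exact ⟨⟨co i v, Algebra.subset_adjoin (Finset.mem_union_left _ (Finset.mem_biUnion.mpr
        ⟨v, hv, Finset.mem_image_of_mem _ ((finite_support v).mem_toFinset.mpr h0)⟩))⟩, rfl⟩
  obtain ⟨S₁, hS₁⟩ := exists_locN_eq A₁ S (Gs : Set (FreeMod W a n)) hGs
    fun v hv i => hco v (Finset.mem_union_left _ hv) i
  obtain ⟨g₁, hg₁⟩ := exists_phi_eq (A := A₁) g (hco g (Finset.mem_union_right _ (Finset.mem_singleton_self g)))
  obtain ⟨s₁, hs₁⟩ := exists_map_eq' A₁ s fun e => by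
    by_cases h0 : coeff e s = 0
    · rw [h0]; exact zero_mem _
    · exact Algebra.subset_adjoin (Finset.mem_union_right _
        (Finset.mem_image_of_mem _ (mem_support_iff.mpr h0)))
  exact exists_content_desc R k hsurj hker hD IsLocalRing.ker_residue S hS S₁ hS₁ g g₁ hg₁ _ s₁ hs₁ Q hskQ
    hkill

/-- The content of a vector modulo an element with full radical, at a point of the closed fibre. -/
theorem exists_content {D : W} (hDu : D ∈ IsLocalRing.maximalIdeal W)
    (hD : ∀ z ∈ IsLocalRing.maximalIdeal W, ∃ k : ℕ, D ∣ z ^ k)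
    (S : Submodule (MvPolynomial (Fin n) W) (FreeMod W a n)) (hS : satW S ≤ S)
    (Q : Ideal (MvPolynomial (Fin n) (IsLocalRing.ResidueField W))) [Q.IsPrime] (g : FreeMod W a n) :
    ∃ s : MvPolynomial (Fin n) W, MvPolynomial.map (algebraMap W (IsLocalRing.ResidueField W)) s ∉ Q ∧
      ((s • g ∈ S ⊔ cf (Ideal.span {D})) ∨ ∃ (c : W) (g' : FreeMod W a n), c ∣ D ∧
        s • g - (C c : MvPolynomial (Fin n) W) • g' ∈ S ⊔ cf (Ideal.span {D}) ∧
        ∀ s₂ : MvPolynomial (Fin n) W, MvPolynomial.map (algebraMap W (IsLocalRing.ResidueField W)) s₂ ∉ Q →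
          s₂ • g' ∉ S ⊔ cf (IsLocalRing.maximalIdeal W)) := by
  let R := W ⧸ Ideal.span {D}
  have hDle : Ideal.span {D} ≤ IsLocalRing.maximalIdeal W := (Ideal.span_singleton_le_iff_mem _).mpr hDu
  letI : Algebra R (IsLocalRing.ResidueField W) :=
    (Ideal.Quotient.lift (Ideal.span {D}) (algebraMap W (IsLocalRing.ResidueField W)) fun x hx =>
      Ideal.Quotient.eq_zero_iff_mem.mpr (hDle hx)).toAlgebra
  haveI : IsScalarTower W R (IsLocalRing.ResidueField W) := .of_algebraMap_eq fun _ => rfl
  exact exists_content_aux R Ideal.Quotient.mk_surjective Ideal.mk_ker hDu hD S hS Q g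

end Groth.Agent.UILLib
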