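import Groth.Agent.UILLib.Separation
import Groth.Agent.UILLib.Closed
import Groth.Agent.UILLib.Chain

/-!
# Injectivity at all fibres

A map to a flat module from a localized finitely generated module over a polynomial ring, injective
modulo the maximal ideal, is injective after base change to every field.
-/

set_option autoImplicit false
set_option linter.style.haveILetI false
set_option linter.unusedSectionVars false
set_option maxHeartbeats 1000000
set_option backward.isDefEq.respectTransparency false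

universe u

open MvPolynomial TensorProduct Groth.Agent.GenFree Groth.Agent.FlatLocus Groth.Agent.RGFlatLib

noncomputable section

namespace Groth.Agent.UILLib

theorem overring_total {K : Type u} [Field K] {A V V' : ValuationSubring K} (h : A ≤ V) (h' : A ≤ V') :
    V ≤ V' ∨ V' ≤ V :=
  (ValuationSubring.le_total_ideal A).total (⟨V, h⟩ : {S // A ≤ S}) ⟨V', h'⟩

/-- Bounded chains give well-foundedness. -/
theorem wellFounded_of_chain {K : Type u} [Field K] (G : Finset K)
    (hG : Subfield.closure (G : Set K) = ⊤) :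
    WellFoundedLT (ValuationSubring K) ∧ WellFoundedGT (ValuationSubring K) := by
  constructor
  · refine ⟨wellFounded_iff_isEmpty_descending_chain.mpr ⟨fun ⟨f, hf⟩ => ?_⟩⟩
    have := chain_le G hG (r := G.card + 2) (fun i => f (G.card + 2 - i.val)) fun i j hij => by
      refine (strictAnti_nat_of_succ_lt hf) ?_
      have := j.isLt
      simp only [Fin.lt_def] at hij
      omega
    omega
  · refine ⟨wellFounded_iff_isEmpty_descending_chain.mpr ⟨fun ⟨f, hf⟩ => ?_⟩⟩
    have := chain_le G hG (r := G.card + 2) (fun i => f i.val) fun i j hij =>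
      (strictMono_nat_of_lt_succ hf) (Fin.lt_def.mp hij)
    omega

variable {A : Type u} [CommRing A] {M : Type u} [AddCommGroup M] [Module A M] {a n : ℕ}
  {KA : Submodule (MvPolynomial (Fin n) A) (FreeMod A a n)} {q : Ideal (MvPolynomial (Fin n) A)} [q.IsPrime]
  {κ : Type u} [Field κ] [Algebra A κ] (P : Prob κ a n)

theorem Phi_natural (u : Nq KA q →ₗ[A] M) {R R' : Type u} [CommRing R] [CommRing R'] [Algebra A R]
    [Algebra A R'] (φ : R →ₗ[A] R') (z : FreeMod A a n ⊗[A] R) :
    Phi KA q R' u (φ.lTensor _ z) = φ.lTensor M (Phi KA q R u z) := by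
  rw [Phi, Phi, ← LinearMap.comp_apply, ← LinearMap.comp_apply, LinearMap.rTensor_comp_lTensor,
    LinearMap.lTensor_comp_rTensor]

theorem extMap_lTensor {R R' : Type u} [CommRing R] [CommRing R'] [Algebra A R] [Algebra A R'] [Algebra R R']
    [IsScalarTower A R R'] (z : FreeMod A a n ⊗[A] R) :
    extMap R' ((IsScalarTower.toAlgHom A R R').toLinearMap.lTensor _ z) = phi R' (extMap R z) := by
  induction z using TensorProduct.induction_on with
  | zero => simp
  | tmul p r =>
    rw [LinearMap.lTensor_tmul, extMap_tmul, extMap_tmul, LinearMap.map_smul, phi_phi]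
    exact algebraMap_smul R' r _
  | add x y hx hy => simp only [map_add, hx, hy]

/-- Vanishing at the closed point, over a valuation ring centred there. -/
theorem divP_closed [IsLocalRing A] [Module.Flat A M]
    (hq : IsLocalRing.maximalIdeal A ≤ q.comap C) (u : Nq KA q →ₗ[A] M)
    (hu : Function.Injective (u.lTensor (IsLocalRing.ResidueField A)))
    (hUK : letI := P.ι.toAlgebra; locN κ P.U = locN κ KA)
    (hker : letI := P.ι.toAlgebra; ∀ z, extMap κ z = phi κ P.f → Phi KA q κ u z = 0)
    (m : Mem q.primeCompl κ) {V₀ : ValuationSubring P.K} (hm : m.comap P.ι = V₀)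
    (hcen : ∀ p ∈ q, eval₂ (m.ψ.comp (algebraMap A κ)) m.pt p ∈ m.V.nonunits)
    {c : P.K} (hc : c ≠ 0) (hInt : P.IntAt q.primeCompl V₀ c) : P.DivP m c := by
  classical
  letI : Algebra P.K κ := P.ι.toAlgebra
  letI : Algebra κ m.L := m.ψ.toAlgebra
  letI : Algebra A m.L := (m.ψ.comp (algebraMap A κ)).toAlgebra
  letI : Algebra P.K m.L := (m.σ P.ι).toAlgebra
  haveI : IsScalarTower A κ m.L := .of_algebraMap_eq fun _ => rfl
  haveI : IsScalarTower P.K κ m.L := .of_algebraMap_eq fun _ => rfl
  let ρ : V₀ →+* m.V := toV P m hm.ge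
  letI : Algebra V₀ m.V := ρ.toAlgebra
  letI : Algebra V₀ m.L := ((algebraMap m.V m.L).comp ρ).toAlgebra
  haveI : IsScalarTower V₀ m.V m.L := .of_algebraMap_eq fun _ => rfl
  haveI : IsScalarTower V₀ P.K m.L := .of_algebraMap_eq fun _ => rfl
  have hUL : locN m.L P.U = locN m.L KA := by
    rw [← locN_locN (R := m.L) κ P.U, hUK, locN_locN]
  let fL := phi m.L P.f
  have hkerL : ∀ z, extMap m.L z = fL → Phi KA q m.L u z = 0 := fun z hz => by
    obtain ⟨zκ, hzκ⟩ := extMap_surjective (A := A) (R := κ) (phi κ P.f)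
    have he : z = (IsScalarTower.toAlgHom A κ m.L).toLinearMap.lTensor _ zκ := by
      apply extMap_injective
      rw [hz, extMap_lTensor, hzκ, phi_phi]
    rw [he, Phi_natural, hker zκ hzκ, map_zero]
  have hρmap : ∀ p : MvPolynomial (Fin n) V₀, MvPolynomial.map m.V.subtype (MvPolynomial.map ρ p) =
      MvPolynomial.map (m.σ P.ι) (MvPolynomial.map V₀.subtype p) := fun p => by
    rw [MvPolynomial.map_map, MvPolynomial.map_map]; rfl
  let bI : Ideal (MvPolynomial (Fin n) m.V) :=
    { carrier := {p | ∃ g : FreeMod m.L a n, VecIn m.V g ∧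
        MvPolynomial.map m.V.subtype p • fL - m.σ P.ι c • g ∈ locN m.L P.U}
      zero_mem' := ⟨0, fun i => (polyIn m.V).zero_mem, by simp⟩
      add_mem' := by
        rintro p p' ⟨g, hg, h⟩ ⟨g', hg', h'⟩
        refine ⟨g + g', hg.add hg', ?_⟩
        rw [map_add, add_smul, smul_add, add_sub_add_comm]
        exact add_mem h h'
      smul_mem' := by
        rintro r p ⟨g, hg, h⟩
        refine ⟨MvPolynomial.map m.V.subtype r • g, VecIn.smul ⟨r, rfl⟩ hg, ?_⟩
        rw [smul_eq_mul, map_mul, mul_smul, smul_comm (m.σ P.ι c), ← smul_sub]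
        exact Submodule.smul_mem _ _ h }
  obtain ⟨_, ⟨t, ht, rfl⟩, htI⟩ : ∃ x ∈ q.primeCompl.map (MvPolynomial.map m.baseHom), x ∈ bI := by
    by_contra hcon
    push Not at hcon
    obtain ⟨Q, hQ, hbQ, hdis⟩ := Ideal.exists_le_prime_disjoint bI
      (q.primeCompl.map (MvPolynomial.map m.baseHom)) (Set.disjoint_right.mpr hcon)
    haveI := hQ
    obtain ⟨m', hle, hpt⟩ := exists_mem_of_prime m P.ι Q fun t ht hmem =>
      Set.disjoint_left.mp hdis hmem ⟨t, ht, rfl⟩
    rw [hm] at hle
    obtain ⟨s, g, hs, hu', hg, heq⟩ := (hInt m' hle).exists_in P hle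
    obtain ⟨sp, rfl⟩ := hs
    obtain ⟨g', rfl⟩ := hg.exists_phi
    refine hu' ((hpt _ _ (hρmap sp)).mp (hbQ ⟨phi m.L g', fun i => ⟨MvPolynomial.map ρ (g' i), ?_⟩, ?_⟩))
    · rw [phi_apply, MvPolynomial.map_map]; rfl
    · rw [hρmap, ← phi_phi (A := P.K) (R := m.L) g']
      have h := phi_mem m.L P.U heq
      rw [map_sub, phi_smul, LinearMap.map_smul, ← algebraMap_smul m.L c] at h
      exact h
  obtain ⟨g, hg, h1⟩ := htI
  rw [MvPolynomial.map_map] at h1
  have hmA : ∀ x ∈ IsLocalRing.maximalIdeal A, algebraMap A m.L x ∈ m.V.nonunits := fun x hx => by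
    have h := hcen _ (hq hx)
    rwa [eval₂_C] at h
  obtain ⟨t', ht', w, hw, h2⟩ := exists_vanish KA q u hu (L := m.L) m.V m.base_mem hmA fL hkerL ⟨t, ht⟩
    ((map_ne_zero (m.σ P.ι)).mpr hc) g hg (hUL ▸ h1)
  rw [← hUL] at h2
  obtain ⟨s₁, g₁, hs₁, hu₁, hg₁, heq₁⟩ := hInt m hm.ge
  rw [hm] at hs₁ hg₁
  obtain ⟨s₁, rfl⟩ := hs₁
  obtain ⟨g₁, rfl⟩ := hg₁.exists_phi
  obtain ⟨w', hw', rfl⟩ := hw.exists_phi
  let tt := MvPolynomial.map m.baseHom (t' * t)
  let x : FreeMod m.V a n := tt • phi m.V g₁ - MvPolynomial.map ρ s₁ • w'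
  have h3 := phi_mem m.L P.U heq₁
  rw [map_sub, phi_smul, LinearMap.map_smul, ← algebraMap_smul m.L c] at h3
  have h4 : MvPolynomial.map (algebraMap A m.L) (t' * t) • fL - m.σ P.ι c • phi m.L w' ∈ locN m.L P.U := by
    have h := add_mem (Submodule.smul_mem _ (MvPolynomial.map (algebraMap A m.L) t') h1)
      (Submodule.smul_of_tower_mem _ (m.σ P.ι c) h2)
    rw [map_mul, mul_smul]
    rw [smul_sub, smul_sub, smul_comm _ (m.σ P.ι c) g, sub_add_sub_cancel] at h
    exact h
  have hx : x ∈ locN m.V (pull V₀ P.U) := by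
    refine mem_locN_pull (K := P.K) (L := m.L) ?_
    have h5 := scaled_sub (F := FreeMod m.L a n) ((map_ne_zero (m.σ P.ι)).mpr hc) h3 h4
    rw [show (algebraMap P.K m.L c) = m.σ P.ι c from rfl, inv_mul_cancel₀ ((map_ne_zero (m.σ P.ι)).mpr hc),
      one_smul] at h5
    have h6 := neg_mem h5
    rw [neg_sub] at h6
    rw [map_sub, phi_smul, phi_smul, phi_phi, ← phi_phi (A := P.K) (R := m.L) g₁]
    have e1 : MvPolynomial.map (algebraMap m.V m.L) tt = MvPolynomial.map (algebraMap A m.L) (t' * t) := by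
      rw [MvPolynomial.map_map]; rfl
    have e2 : MvPolynomial.map (algebraMap m.V m.L) (MvPolynomial.map ρ s₁) =
        MvPolynomial.map (algebraMap P.K m.L) (MvPolynomial.map V₀.subtype s₁) := hρmap s₁
    rw [e1, e2]
    exact h6
  let k := IsLocalRing.ResidueField m.V
  letI : Algebra V₀ k := resAlg P m hm.ge
  haveI : IsScalarTower V₀ m.V k := .of_algebraMap_eq fun _ => rfl
  refine divP_of_reduction P m hm s₁ hu₁ g₁ heq₁ (MvPolynomial.map (algebraMap m.V k) tt) ?_ ?_
  · have e : ((eval (fun i => (⟨m.pt i, m.pt_mem i⟩ : m.V)) tt : m.V) : m.L) =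
        eval₂ (m.ψ.comp (algebraMap A κ)) m.pt (t' * t) := by
      show m.V.subtype (eval _ (MvPolynomial.map m.baseHom (t' * t))) = _
      rw [eval_map, eval₂_comp_left]
      rfl
    rw [eval_map]
    show eval₂ (IsLocalRing.residue m.V)
      (IsLocalRing.residue m.V ∘ fun i => (⟨m.pt i, m.pt_mem i⟩ : m.V)) tt ≠ 0
    rw [← eval₂_comp (IsLocalRing.residue m.V)]
    intro h0
    refine m.unit_mem (t' * t) (mul_mem ht' ht) ?_
    rw [← e]
    exact ValuationSubring.coe_mem_nonunits_iff.mpr (Ideal.Quotient.eq_zero_iff_mem.mp h0)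
  · show _ ∈ locN k (pull V₀ P.U)
    have h := phi_mem k _ hx
    rw [locN_locN, map_sub, phi_smul, phi_smul, phi_phi] at h
    have hw0 : phi k w' = 0 := ext_co fun i => by
      rw [co_phi, map_zero]
      exact Ideal.Quotient.eq_zero_iff_mem.mpr (mem_cf.mp hw' i)
    rwa [hw0, smul_zero, sub_zero] at h

/-- The induction. -/
theorem vanish_all [IsLocalRing A] [Module.Flat A M] [WellFoundedLT (ValuationSubring P.K)]
    [WellFoundedGT (ValuationSubring P.K)]
    (hq : IsLocalRing.maximalIdeal A ≤ q.comap C) (u : Nq KA q →ₗ[A] M)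
    (hu : Function.Injective (u.lTensor (IsLocalRing.ResidueField A)))
    (hUK : letI := P.ι.toAlgebra; locN κ P.U = locN κ KA)
    (hker : letI := P.ι.toAlgebra; ∀ z, extMap κ z = phi κ P.f → Phi KA q κ u z = 0)
    (V₀ : ValuationSubring P.K) : P.Vanish q.primeCompl V₀ := by
  classical
  induction V₀ using WellFoundedLT.induction with
  | ind V₀ ih =>
    intro c hInt m hm
    rcases eq_or_ne c 0 with rfl | hc
    · obtain ⟨s, g, hs, hev, -, heq⟩ := hInt m hm.ge
      refine ⟨s, 0, hs, hev, vecNon_zero, ?_⟩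
      simpa using heq
    obtain ⟨W, hW, hpt, hb, hcen, hunit⟩ := exists_refinement q rfl m
    let mW : Mem q.primeCompl κ :=
      { L := m.L, ψ := m.ψ, V := W, pt := m.pt, pt_mem := hpt, base_mem := hb, unit_mem := hunit }
    have hle : mW.comap P.ι ≤ V₀ := by
      rw [← hm]
      exact fun x hx => hW hx
    rcases hle.eq_or_lt with h0 | hlt
    · have h1 := divP_closed P hq u hu hUK hker mW h0 hcen hc hInt
      exact h1.of_coarsen P (m := mW) (V' := m.V) (h := hW) (hm.trans h0.symm)
    obtain ⟨V₁, ⟨hV₁, hV₁₀⟩, hmax⟩ := WellFounded.has_min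
      (wellFounded_gt (α := ValuationSubring P.K))
      {V | mW.comap P.ι ≤ V ∧ V < V₀} ⟨mW.comap P.ι, le_rfl, hlt⟩
    have hadj : ∀ V', V₁ < V' → V₀ ≤ V' := fun V' hV' => by
      rcases overring_total hV₁₀.le hV'.le with h | h
      · exact h
      rcases h.eq_or_lt with h | h
      · exact h.ge
      exact absurd hV' (hmax V' ⟨hV₁.trans hV'.le, h⟩)
    obtain ⟨x, hx, hx'⟩ := SetLike.exists_of_lt hV₁₀
    have hx0 : x ≠ 0 := fun h => hx' (h ▸ zero_mem _)
    let d := x⁻¹
    have hd : d ∈ V₁.nonunits := V₁.inv_mem_nonunits_iff.mpr (Or.inr hx')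
    have hd0 : d ≠ 0 := inv_ne_zero hx0
    have hdinv : d⁻¹ = x := inv_inv x
    have hup : ∀ V', V₁ < V' → d⁻¹ ∈ V' := fun V' h => by rw [hdinv]; exact hadj V' h hx
    obtain ⟨Vh, hWVh, hVh, hmin⟩ := exists_coarsening (mW.σ P.ι) W V₁ hV₁
    let mh := mW.coarsen Vh hWVh
    have hVhm : Vh ≤ m.V := hmin m.V hW (by
      intro z hz
      have h : z ∈ V₀ := hV₁₀.le hz
      rw [← hm] at h
      exact h)
    have hall : ∀ j : ℕ, P.Div mh (c * d ^ j) := fun j =>
      div_all_pow P hc hd hd0 hup (fun m' h => hInt m' (hadj _ h)) (ih V₁ hV₁₀) j mh hVh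
    let σd : m.L := m.σ P.ι d
    have hdh : σd ∈ Vh := by
      have h : d ∈ Vh.comap (mW.σ P.ι) := by rw [hVh]; exact V₁.nonunits_subset hd
      exact h
    let S : Subring m.L :=
      { carrier := {y | ∃ k : ℕ, σd ^ k * y ∈ Vh}
        zero_mem' := ⟨0, by simp⟩
        one_mem' := ⟨0, by simp⟩
        add_mem' := by
          rintro y z ⟨k, hk⟩ ⟨l, hl⟩
          refine ⟨k + l, ?_⟩
          rw [show σd ^ (k + l) * (y + z) = σd ^ k * y * σd ^ l + σd ^ k * (σd ^ l * z) by ring]
          exact Vh.add_mem _ _ (Vh.mul_mem _ _ hk (pow_mem hdh _)) (Vh.mul_mem _ _ (pow_mem hdh _) hl)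
        mul_mem' := by
          rintro y z ⟨k, hk⟩ ⟨l, hl⟩
          refine ⟨k + l, ?_⟩
          rw [pow_add, mul_mul_mul_comm]
          exact Vh.mul_mem _ _ hk hl
        neg_mem' := by
          rintro y ⟨k, hk⟩
          exact ⟨k, by rw [mul_neg]; exact Vh.neg_mem _ hk⟩ }
    let V' : ValuationSubring m.L := ValuationSubring.ofLE Vh S fun y hy => ⟨0, by simpa using hy⟩
    have hVhV' : Vh ≤ V' := fun y hy => ⟨0, by simpa using hy⟩
    have hV'm : V' ≤ m.V := by
      rintro y ⟨k, hk⟩
      have hinv : σd⁻¹ ∈ m.V := by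
        have h : x ∈ m.comap P.ι := by rw [hm]; exact hx
        rw [← map_inv₀, hdinv]
        exact h
      have hy : y = σd⁻¹ ^ k * (σd ^ k * y) := by
        rw [← mul_assoc, ← mul_pow, inv_mul_cancel₀ ((map_ne_zero _).mpr hd0), one_pow, one_mul]
      rw [hy]
      exact m.V.mul_mem _ _ (pow_mem hinv _) (hVhm hk)
    have hm' : (mh.coarsen V' hVhV').comap P.ι = V₀ := by
      refine le_antisymm ?_ ?_
      · rw [← hm]; exact fun z hz => hV'm hz
      · refine hadj _ (lt_of_le_of_ne ?_ fun h => hx' ?_)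
        · rw [← hVh]; exact fun z hz => hVhV' hz
        · rw [h]
          refine ⟨1, ?_⟩
          show σd ^ 1 * m.σ P.ι x ∈ Vh
          rw [pow_one, ← map_mul, inv_mul_cancel₀ hx0, map_one]
          exact Vh.one_mem
    have h1 := divP_of_divisible P mh hVh V' hVhV' hm' hc hd hd0 (fun y hy => hy) hall (hInt _ hm'.ge)
    exact h1.of_coarsen P (m := mh.coarsen V' hVhV') (V' := m.V) (h := hV'm) (hm.trans hm'.symm)

/-- A vector in the kernel is killed by a multiplier outside the prime. -/
theorem exists_multiplier [IsLocalRing A] [Module.Flat A M] [WellFoundedLT (ValuationSubring P.K)]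
    [WellFoundedGT (ValuationSubring P.K)]
    (hq : IsLocalRing.maximalIdeal A ≤ q.comap C) (u : Nq KA q →ₗ[A] M)
    (hu : Function.Injective (u.lTensor (IsLocalRing.ResidueField A)))
    (hUK : letI := P.ι.toAlgebra; locN κ P.U = locN κ KA)
    (hker : letI := P.ι.toAlgebra; ∀ z, extMap κ z = phi κ P.f → Phi KA q κ u z = 0) :
    letI := P.ι.toAlgebra
    ∃ t ∈ q.primeCompl, MvPolynomial.map (algebraMap A κ) t • phi κ P.f ∈ locN κ KA := by
  classical
  letI : Algebra P.K κ := P.ι.toAlgebra
  by_contra hcon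
  push Not at hcon
  let f₀ := phi κ P.f
  let I : Ideal (MvPolynomial (Fin n) κ) := (locN κ KA).comap (LinearMap.toSpanSingleton _ _ f₀)
  obtain ⟨P', hP', hIP', hdis⟩ := Ideal.exists_le_prime_disjoint I
    (q.primeCompl.map (MvPolynomial.map (algebraMap A κ))) (Set.disjoint_right.mpr (by
      rintro _ ⟨t, ht, rfl⟩ hmem
      exact hcon t ht hmem))
  haveI := hP'
  let L := FractionRing (MvPolynomial (Fin n) κ ⧸ P')
  let j : MvPolynomial (Fin n) κ →+* L := (algebraMap _ L).comp (Ideal.Quotient.mk P')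
  have hj : ∀ p, j p = 0 → p ∈ P' := fun p hp => Ideal.Quotient.eq_zero_iff_mem.mp
    (IsFractionRing.injective _ L (hp.trans (map_zero _).symm))
  have htop : ∀ {E : Type u} [Field E] {z : E}, z ∈ (⊤ : ValuationSubring E).nonunits → z = 0 := fun hz =>
    ((ValuationSubring.mem_nonunits_iff_or _).mp hz).resolve_right fun h => h trivial
  have htopiff : ∀ p, eval₂ ((j.comp C).comp (algebraMap A κ)) (fun i => j (X i)) p =
      j (MvPolynomial.map (algebraMap A κ) p) := fun p =>
    DFunLike.congr_fun (MvPolynomial.ringHom_ext (g := j.comp (MvPolynomial.map (algebraMap A κ)))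
      (f := eval₂Hom ((j.comp C).comp (algebraMap A κ)) fun i => j (X i))
      (fun r => by simp) fun i => by simp) p
  let m : Mem q.primeCompl κ :=
    { L := L, ψ := j.comp C, V := ⊤, pt := fun i => j (X i), pt_mem := fun i => trivial
      base_mem := fun x => trivial
      unit_mem := fun t ht h => by
        have h0 : j (MvPolynomial.map (algebraMap A κ) t) = 0 := by
          rw [← htopiff]; exact htop h
        exact Set.disjoint_left.mp hdis (hj _ h0) ⟨t, ht, rfl⟩ }
  have hm : m.comap P.ι = ⊤ := eq_top_iff.mpr fun _ _ => trivial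
  have hIT : P.IntAt q.primeCompl ⊤ 1 := by
    intro m' hm'
    refine ⟨1, P.f, (polyIn _).one_mem, ?_, fun i => mem_polyIn.mpr fun e => hm' trivial, ?_⟩
    · rw [map_one, ValuationSubring.mem_nonunits_iff, map_one]
      exact lt_irrefl _
    · rw [one_smul, one_smul, sub_self]
      exact zero_mem _
  obtain ⟨s, g, -, hev, hg, heq⟩ := vanish_all P hq u hu hUK hker ⊤ 1 hIT m hm
  rw [hm] at hg
  have hg0 : g = 0 := funext fun i => MvPolynomial.ext _ _ fun e => by
    rw [Pi.zero_apply, coeff_zero]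
    exact htop (hg i e)
  rw [hg0, smul_zero, sub_zero] at heq
  have h1 := phi_mem κ P.U heq
  rw [phi_smul, hUK] at h1
  have h2 : MvPolynomial.map (algebraMap P.K κ) s ∈ P' := hIP' h1
  apply hev
  have h3 : m.ev P.ι s = j (MvPolynomial.map (algebraMap P.K κ) s) :=
    DFunLike.congr_fun (MvPolynomial.ringHom_ext (f := m.ev P.ι) (g := j.comp (MvPolynomial.map (algebraMap P.K κ)))
      (fun r => by rw [RingHom.comp_apply, map_C, Mem.ev_C]; rfl) fun i => by simp [Mem.ev, m]) s
  rw [h3, RingHom.comp_apply, Ideal.Quotient.eq_zero_iff_mem.mpr h2, map_zero, ValuationSubring.mem_nonunits_iff,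
    map_zero]
  exact zero_lt_one

/-- Injectivity after base change to every field. -/
theorem fibre_injective [IsLocalRing A] [Module.Flat A M]
    (hq : IsLocalRing.maximalIdeal A ≤ q.comap C) (u : Nq KA q →ₗ[A] M)
    (hu : Function.Injective (u.lTensor (IsLocalRing.ResidueField A)))
    (κ : Type u) [Field κ] [Algebra A κ] : Function.Injective (u.rTensor κ) := by
  classical
  rw [injective_iff_map_eq_zero]
  intro y hy
  let gk := AlgebraTensorModule.rTensor A κ (LocalizedModule.mkLinearMap q.primeCompl (FreeMod A a n ⧸ KA))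
  let π := AlgebraTensorModule.rTensor A κ KA.mkQ
  obtain ⟨⟨x, t₀⟩, hx⟩ := IsLocalizedModule.surj q.primeCompl gk y
  obtain ⟨ξ, rfl⟩ : ∃ ξ, π ξ = x :=
    LinearMap.rTensor_surjective κ (g := KA.mkQ.restrictScalars A) KA.mkQ_surjective x
  let u' : Nq KA q →ₗ[A] M := u ∘ₗ (divT KA q t₀).restrictScalars A
  have hu' : Function.Injective (u'.lTensor (IsLocalRing.ResidueField A)) := by
    rw [LinearMap.lTensor_comp]
    refine hu.comp ?_
    exact (LinearEquiv.lTensor _ (LinearEquiv.ofBijective ((divT KA q t₀).restrictScalars A)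
      (divT_bijective KA q t₀))).injective
  have hdiv : ∀ z : Nq KA q ⊗[A] κ, u'.rTensor κ ((t₀ : MvPolynomial (Fin n) A) • z) = u.rTensor κ z := fun z => by
    induction z using TensorProduct.induction_on with
    | zero => simp
    | tmul x l =>
      rw [TensorProduct.smul_tmul']
      simp only [LinearMap.rTensor_tmul, u', LinearMap.comp_apply, LinearMap.coe_restrictScalars, divT_smul]
    | add x y hx hy => simp only [map_add, smul_add, hx, hy]
  have hPhi : Phi KA q κ u' ξ = 0 := by
    have h1 : u'.rTensor κ (gk (π ξ)) = 0 := by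
      rw [← hx, Submonoid.smul_def, hdiv, hy]
    rw [← h1]
    clear hx h1 hy
    induction ξ using TensorProduct.induction_on with
    | zero => simp
    | tmul x l => rfl
    | add x y hx hy => simp only [map_add, hx, hy]
  -- the goal is to find a multiplier outside the prime
  suffices h : ∃ t ∈ q.primeCompl, MvPolynomial.map (algebraMap A κ) t • extMap κ ξ ∈ locN κ KA by
    obtain ⟨t, ht, htm⟩ := h
    rw [← extMap_smul] at htm
    have h1 : π (t • ξ) = 0 := rTensor_mkQ_eq_zero κ KA htm
    rw [map_smul] at h1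
    have h2 := congrArg gk h1
    rw [map_zero, map_smul, ← hx, Submonoid.smul_def, smul_smul] at h2
    exact ((Module.End.isUnit_iff _).mp (IsLocalizedModule.map_units gk ⟨t * t₀, mul_mem ht t₀.2⟩)).1
      (h2.trans (map_zero _).symm)
  let f₀ := extMap κ ξ
  -- the field of definition
  obtain ⟨k, v, hv⟩ := Submodule.fg_iff_exists_fin_generating_family.mp
    (IsNoetherian.noetherian (locN κ KA))
  let S : Finset κ := ((finite_support f₀).toFinset.image fun i => co i f₀) ∪
    Finset.univ.biUnion fun j => (finite_support (v j)).toFinset.image fun i => co i (v j)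
  let F := Subfield.closure (S : Set κ)
  have hSmem : ∀ (g : FreeMod κ a n), (∀ i, co i g ≠ 0 → co i g ∈ S) → ∃ g' : FreeMod F a n, phi κ g' = g :=
    fun g hg => exists_phi_eq g fun i => by
      by_cases h0 : co i g = 0
      · exact ⟨0, by rw [map_zero, h0]⟩
      · exact ⟨⟨co i g, Subfield.subset_closure (hg i h0)⟩, rfl⟩
  obtain ⟨f', hf'⟩ := hSmem f₀ fun i hi => Finset.mem_union_left _
    (Finset.mem_image_of_mem _ ((finite_support f₀).mem_toFinset.mpr hi))
  have hv' : ∀ j, ∃ g' : FreeMod F a n, phi κ g' = v j := fun j => hSmem _ fun i hi =>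
    Finset.mem_union_right _ (Finset.mem_biUnion.mpr ⟨j, Finset.mem_univ _,
      Finset.mem_image_of_mem _ ((finite_support (v j)).mem_toFinset.mpr hi)⟩)
  choose v' hv' using hv'
  have hG : Subfield.closure ((S.preimage ((↑) : F → κ) Subtype.val_injective.injOn : Finset F) : Set F) = ⊤ := by
    rw [Finset.coe_preimage, eq_top_iff]
    rintro ⟨z, hz⟩ -
    induction hz using Subfield.closure_induction with
    | mem z hz => exact Subfield.subset_closure hz
    | one => exact one_mem _
    | add z w _ _ hz hw => exact add_mem hz hw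
    | neg z _ hz => exact neg_mem hz
    | inv z _ hz => exact inv_mem hz
    | mul z w _ _ hz hw => exact mul_mem hz hw
  obtain ⟨hlt, hgt⟩ := wellFounded_of_chain _ hG
  have hUK : locN κ (Submodule.span (MvPolynomial (Fin n) F) (Set.range v')) = locN κ KA := by
    rw [locN_span]
    simp only [hv', hv]
  have h := @exists_multiplier A _ M _ _ a n KA q _ κ _ _
    { K := F, ι := F.subtype, U := Submodule.span _ (Set.range v'), f := f' } _ _ hlt hgt hq u' hu' hUK
    (fun z hz => by
      obtain rfl : z = ξ := extMap_injective _ (hz.trans hf')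
      exact hPhi)
  obtain ⟨t, ht, htm⟩ := h
  refine ⟨t, ht, ?_⟩
  show _ • f₀ ∈ _
  rw [← hf']
  exact htm

end Groth.Agent.UILLib
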