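import Groth.Agent.UILLib.Fibre
import Groth.Agent.RGFlatLib.Main

/-!
# Universal injectivity and flatness for finitely many relations
-/

set_option autoImplicit false
set_option linter.style.haveILetI false
set_option linter.unusedSectionVars false
set_option maxHeartbeats 1000000
set_option backward.isDefEq.respectTransparency false

universe u

open MvPolynomial TensorProduct Groth.Agent.GenFree Groth.Agent.FlatLocus Groth.Agent.RGFlatLib

noncomputable section

namespace Groth.Agent.UILLib

variable {A : Type u} [CommRing A] {M : Type u} [AddCommGroup M] [Module A M] {a n : ℕ}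
  {KA : Submodule (MvPolynomial (Fin n) A) (FreeMod A a n)} {q : Ideal (MvPolynomial (Fin n) A)} [q.IsPrime]

/-- Over a valuation ring centred at the point the quotient has no torsion. -/
theorem mem_flatSet_valuation [IsLocalRing A] [Module.Flat A M] (hq : IsLocalRing.maximalIdeal A ≤ q.comap C)
    (u : Nq KA q →ₗ[A] M) (hu : Function.Injective (u.lTensor (IsLocalRing.ResidueField A)))
    (W : Type u) [CommRing W] [IsDomain W] [ValuationRing W] [Algebra A W]
    (Q : PrimeSpectrum (MvPolynomial (Fin n) W))
    (hQ : Q.asIdeal.comap (MvPolynomial.map (algebraMap A W)) = q)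
    (hQm : (IsLocalRing.maximalIdeal W).map (C : W →+* MvPolynomial (Fin n) W) ≤ Q.asIdeal) :
    Q ∈ flatSet (locN W KA) := by
  classical
  let L := FractionRing W
  have hmW : ∀ x ∈ IsLocalRing.maximalIdeal A, algebraMap A W x ∈ IsLocalRing.maximalIdeal W := fun x hx => by
    by_contra hnot
    have h1 := hq hx
    rw [← hQ, Ideal.mem_comap, Ideal.mem_comap, map_C] at h1
    exact Q.2.ne_top (Ideal.eq_top_of_isUnit_mem _ h1
      ((IsLocalRing.notMem_maximalIdeal.mp hnot).map (C : W →+* MvPolynomial (Fin n) W)))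
  let ρ : W →ₗ[A] L := (IsScalarTower.toAlgHom A W L).toLinearMap
  let N := locN W KA
  have hsat : satW N ≤ Sat Q.asIdeal.primeCompl N := by
    refine le_sat_of_le_sup_smul Q.asIdeal hQm (satW_fg N) fun x hx => ?_
    obtain ⟨w, hw, hwx⟩ := mem_satW.mp hx
    obtain ⟨ζ, rfl⟩ := extMap_surjective (A := A) (R := W) x
    have hW : Phi KA q W u ζ = 0 := by
      have hinj : Function.Injective (ρ.lTensor M) :=
        Module.Flat.lTensor_preserves_injective_linearMap ρ (IsFractionRing.injective W L)
      refine hinj ?_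
      rw [map_zero, ← Phi_natural]
      have hext : extMap L (ρ.lTensor _ ζ) = phi L (extMap W ζ) := extMap_lTensor ζ
      have hmem : extMap L (ρ.lTensor _ ζ) ∈ locN L KA := by
        have h1 := phi_mem L N hwx
        rw [phi_smul, map_C, locN_locN, show (C (algebraMap W L w) : MvPolynomial (Fin n) L) • phi L (extMap W ζ) =
          algebraMap W L w • phi L (extMap W ζ) from algebraMap_smul (MvPolynomial (Fin n) L) _ _] at h1
        have h2 := Submodule.smul_of_tower_mem _ (algebraMap W L w)⁻¹ h1
        rwa [smul_smul, inv_mul_cancel₀ (fun h0 => hw (IsFractionRing.injective W L (h0.trans (map_zero _).symm))),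
          one_smul, ← hext] at h2
      have h0 := rTensor_mkQ_eq_zero L KA hmem
      show (u ∘ₗ (toNq KA q).restrictScalars A).rTensor L _ = 0
      rw [show u ∘ₗ (toNq KA q).restrictScalars A =
        (u ∘ₗ (LocalizedModule.mkLinearMap q.primeCompl (FreeMod A a n ⧸ KA)).restrictScalars A) ∘ₗ
          KA.mkQ.restrictScalars A from rfl, LinearMap.rTensor_comp, LinearMap.comp_apply, h0, map_zero]
    obtain ⟨t', ht', h3⟩ := exists_residue_vanish KA q u hu hmW ζ hW
    refine ⟨MvPolynomial.map (algebraMap A W) t', fun h => ht' (by rw [← hQ]; exact h), ?_⟩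
    obtain ⟨y, hy, z, hz, hyz⟩ := Submodule.mem_sup.mp h3
    refine Submodule.mem_sup.mpr ⟨y, hy, z, ?_, hyz⟩
    rcases eq_or_ne z 0 with rfl | hz0
    · exact zero_mem _
    have hzs : z ∈ satW N := by
      rw [eq_sub_of_add_eq' hyz]
      exact sub_mem ((satW N).smul_mem _ hx) (le_sat _ _ hy)
    obtain ⟨c, hc, hc0, z', rfl, -⟩ := exists_smul_eq hz hz0
    exact Submodule.smul_mem_smul (Ideal.mem_map_of_mem _ hc) (mem_satW_of_smul hc0 hzs)
  exact mem_flatSet_of_torsionFree fun x w hw hwx => hsat (mem_satW.mpr ⟨w, hw, hwx⟩)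

/-- A localization over a quotient ring is a localization over the ring. -/
theorem isLocalizedModule_of_surjective {R B X Y : Type u} [CommRing R] [CommRing B] [Algebra R B]
    (hs : Function.Surjective (algebraMap R B)) [AddCommGroup X] [Module R X] [Module B X] [IsScalarTower R B X]
    [AddCommGroup Y] [Module R Y] [Module B Y] [IsScalarTower R B Y] (S : Submonoid B) (f : X →ₗ[B] Y)
    [IsLocalizedModule S f] (T : Submonoid R) (hT : ∀ t, t ∈ T ↔ algebraMap R B t ∈ S) :
    IsLocalizedModule T (f.restrictScalars R) := by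
  refine ⟨fun t => ?_, fun y => ?_, fun {x₁ x₂} h => ?_⟩
  · have h := IsLocalizedModule.map_units f ⟨_, (hT t.1).mp t.2⟩
    rw [Module.End.isUnit_iff] at h ⊢
    convert h using 1
    funext z
    exact (algebraMap_smul B t.1 z).symm
  · obtain ⟨⟨x, s'⟩, hs'⟩ := IsLocalizedModule.surj S f y
    obtain ⟨s, hss⟩ := hs s'.1
    refine ⟨⟨x, ⟨s, (hT s).mpr (hss ▸ s'.2)⟩⟩, ?_⟩
    refine Eq.trans ?_ hs'
    rw [Submonoid.smul_def, ← algebraMap_smul B s y]
    exact congrArg (· • y) hss
  · obtain ⟨s', hs'⟩ := IsLocalizedModule.exists_of_eq (S := S) (f := f) h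
    obtain ⟨s, hss⟩ := hs s'.1
    refine ⟨⟨s, (hT s).mpr (hss ▸ s'.2)⟩, ?_⟩
    rw [Submonoid.smul_def, Submonoid.smul_def, ← algebraMap_smul B s x₁, ← algebraMap_smul B s x₂, hss]
    exact hs'

/-- The localization of a base change, compared through an identification. -/
theorem nonempty_linearEquiv_of_localized {A R X X' Y Y' A' : Type u} [CommRing A] [CommRing R] [Algebra A R]
    [CommRing A'] [Algebra A A'] [AddCommGroup X] [Module R X] [Module A X] [IsScalarTower A R X]
    [AddCommGroup X'] [Module R X'] [Module A X'] [IsScalarTower A R X'] [AddCommGroup Y] [Module R Y]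
    [AddCommGroup Y'] [Module R Y'] (T : Submonoid R) (g : X →ₗ[R] X') [IsLocalizedModule T g] (f : Y →ₗ[R] Y')
    [IsLocalizedModule T f] (ψ : X ⊗[A] A' ≃ₗ[R] Y) : Nonempty (Y' ≃ₗ[R] X' ⊗[A] A') := by
  haveI : IsLocalizedModule T (AlgebraTensorModule.rTensor A A' g) := inferInstance
  haveI : IsLocalizedModule T (f ∘ₗ ψ.toLinearMap) := IsLocalizedModule.of_linearEquiv_right _ _ _
  exact ⟨IsLocalizedModule.linearEquiv T (f ∘ₗ ψ.toLinearMap) (AlgebraTensorModule.rTensor A A' g)⟩

/-- Scalar towers compose from the right. -/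
theorem isScalarTower_left {A R B X : Type u} [SMul A R] [Monoid B] [SMul A B] [SMul R B] [IsScalarTower A R B]
    [SMul A X] [SMul R X] [MulAction B X] [IsScalarTower A B X] [IsScalarTower R B X] : IsScalarTower A R X :=
  ⟨fun r t x => by rw [← smul_one_smul B (r • t) x, smul_assoc r t (1 : B), smul_assoc r (t • (1 : B)) x, smul_one_smul]⟩

/-- Linearity over a quotient ring is automatic. -/
theorem nonempty_extendScalars {A R A' Y X : Type u} [CommRing A] [CommRing R] [CommRing A'] [Algebra A R]
    [Algebra A A'] (hA : Function.Surjective (algebraMap A A')) [AddCommGroup Y] [Module A Y] [Module R Y]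
    [Module A' Y] [IsScalarTower A R Y] [IsScalarTower A A' Y] [AddCommGroup X] [Module A X] [Module R X]
    [IsScalarTower A R X] (θ : Y ≃ₗ[R] X ⊗[A] A') : Nonempty (Y ≃ₗ[A'] A' ⊗[A] X) := by
  let θA : Y ≃ₗ[A] A' ⊗[A] X := (θ.restrictScalars A).trans (TensorProduct.comm A _ _)
  exact ⟨{ θA with
    map_smul' := fun c x => by
      obtain ⟨r, rfl⟩ := hA c
      rw [algebraMap_smul, RingHom.id_apply, algebraMap_smul]
      exact θA.map_smul r x }⟩

section Quotient

variable (KA) (q) (A' : Type u) [CommRing A'] [Algebra A A']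

/-- The presented module over a quotient ring is the base change. -/
theorem exists_quot_equiv :
    letI : Algebra (MvPolynomial (Fin n) A) (MvPolynomial (Fin n) A') := MvPolynomial.algebraMvPolynomial
    Nonempty ((FreeMod A a n ⧸ KA) ⊗[A] A' ≃ₗ[MvPolynomial (Fin n) A] FreeMod A' a n ⧸ locN A' KA) := by
  classical
  letI : Algebra (MvPolynomial (Fin n) A) (MvPolynomial (Fin n) A') := MvPolynomial.algebraMvPolynomial
  let π := AlgebraTensorModule.rTensor A A' KA.mkQ
  let Λ : FreeMod A a n ⊗[A] A' →ₗ[MvPolynomial (Fin n) A] FreeMod A' a n ⧸ locN A' KA :=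
    { toFun := fun z => Submodule.Quotient.mk (extMap A' z)
      map_add' := fun x y => by rw [map_add, Submodule.Quotient.mk_add]
      map_smul' := fun p z => by
        rw [extMap_smul, Submodule.Quotient.mk_smul, RingHom.id_apply]
        exact algebraMap_smul (MvPolynomial (Fin n) A') p _ }
  have hπ : Function.Surjective π :=
    LinearMap.rTensor_surjective A' (g := KA.mkQ.restrictScalars A) KA.mkQ_surjective
  have hΛ : Function.Surjective Λ := fun y => by
    obtain ⟨v, rfl⟩ := Submodule.Quotient.mk_surjective _ y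
    obtain ⟨z, rfl⟩ := extMap_surjective (A := A) (R := A') v
    exact ⟨z, rfl⟩
  have hker : LinearMap.ker π = LinearMap.ker Λ := Submodule.ext fun z =>
    ⟨fun h => (Submodule.Quotient.mk_eq_zero _).mpr (extMap_mem_of_rTensor_mkQ A' KA h),
      fun h => rTensor_mkQ_eq_zero A' KA ((Submodule.Quotient.mk_eq_zero _).mp h)⟩
  exact ⟨(π.quotKerEquivOfSurjective hπ).symm.trans ((Submodule.quotEquivOfEq _ _ hker).trans
    (Λ.quotKerEquivOfSurjective hΛ))⟩

variable (q' : Ideal (MvPolynomial (Fin n) A')) [q'.IsPrime]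

/-- The localized quotient over a quotient ring is the base change. -/
theorem exists_baseChange_localized (hA : Function.Surjective (algebraMap A A'))
    (hq' : q'.comap (MvPolynomial.map (algebraMap A A')) = q) :
    Nonempty (Nq (locN A' KA) q' ≃ₗ[A'] A' ⊗[A] Nq KA q) := by
  classical
  letI : Algebra (MvPolynomial (Fin n) A) (MvPolynomial (Fin n) A') := MvPolynomial.algebraMvPolynomial
  obtain ⟨ψ⟩ := exists_quot_equiv KA A'
  let f := (LocalizedModule.mkLinearMap q'.primeCompl (FreeMod A' a n ⧸ locN A' KA)).restrictScalars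
    (MvPolynomial (Fin n) A)
  haveI : IsLocalizedModule q.primeCompl f :=
    isLocalizedModule_of_surjective (MvPolynomial.map_surjective (algebraMap A A') hA) q'.primeCompl _ q.primeCompl
      fun t => not_congr (by rw [← hq']; rfl)
  have ψ₂ : (FreeMod A a n ⧸ KA) ⊗[A] A' ≃ₗ[MvPolynomial (Fin n) A] FreeMod A' a n ⧸ locN A' KA := ψ
  have h₁ := nonempty_linearEquiv_of_localized (A := A) (A' := A') q.primeCompl
    (LocalizedModule.mkLinearMap q.primeCompl (FreeMod A a n ⧸ KA)) f
  obtain ⟨θ⟩ := h₁ ψ₂
  haveI : IsScalarTower A (MvPolynomial (Fin n) A) (MvPolynomial (Fin n) A') :=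
    .of_algebraMap_eq fun r => by
      show _ = MvPolynomial.map (algebraMap A A') (C r)
      rw [map_C, IsScalarTower.algebraMap_apply A A' (MvPolynomial (Fin n) A')]
      rfl
  haveI : IsScalarTower A (MvPolynomial (Fin n) A) (Nq (locN A' KA) q') :=
    isScalarTower_left (B := MvPolynomial (Fin n) A')
  exact nonempty_extendScalars hA θ

end Quotient

/-- Universal injectivity on modules over a quotient by a nilpotent ideal extends. -/
theorem injective_of_nilpotent {N : Type u} [AddCommGroup N] [Module A N] [Module.Flat A M] (u : N →ₗ[A] M)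
    (J : Ideal A) (hJ : IsNilpotent J)
    (h : ∀ (Q : Type u) [AddCommGroup Q] [Module A Q] [Module (A ⧸ J) Q] [IsScalarTower A (A ⧸ J) Q],
      Function.Injective (u.rTensor Q))
    (Q : Type u) [AddCommGroup Q] [Module A Q] : Function.Injective (u.rTensor Q) := by
  suffices key : ∀ (i : ℕ) (Q : Type u) [AddCommGroup Q] [Module A Q],
      (J ^ i • ⊤ : Submodule A Q) = ⊥ → Function.Injective (u.rTensor Q) by
    obtain ⟨N₀, hN⟩ := hJ
    exact key N₀ Q (by rw [hN, Submodule.zero_eq_bot, Submodule.bot_smul])
  intro i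
  induction i with
  | zero =>
    intro Q _ _ hQ
    rw [pow_zero, Ideal.one_eq_top, Submodule.top_smul] at hQ
    have : Subsingleton Q := ⟨fun x y => sub_eq_zero.mp
      ((Submodule.mem_bot A).mp (hQ ▸ (Submodule.mem_top : x - y ∈ (⊤ : Submodule A Q))))⟩
    exact Function.injective_of_subsingleton _
  | succ i ih =>
    intro Q _ _ hQ
    let Q₁ : Submodule A Q := J ^ i • ⊤
    have htors : Module.IsTorsionBySet A Q₁ (J : Set A) := by
      rintro ⟨x, hx⟩ ⟨r, hr⟩
      refine Subtype.ext ?_
      show r • x = 0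
      rw [← Submodule.mem_bot A, ← hQ, pow_succ', ← smul_eq_mul, smul_assoc]
      exact Submodule.smul_mem_smul hr hx
    letI : Module (A ⧸ J) Q₁ := htors.module
    have h1 : Function.Injective (u.rTensor Q₁) := h Q₁
    have h2 : Function.Injective (u.rTensor (Q ⧸ Q₁)) := ih _ (by
      rw [← Submodule.range_mkQ Q₁, ← Submodule.map_top, ← Submodule.map_smul'']
      exact Submodule.mkQ_map_self Q₁)
    rw [injective_iff_map_eq_zero]
    intro z hz
    have h3 : Q₁.mkQ.lTensor N z = 0 := by
      refine h2 ?_
      rw [map_zero, ← LinearMap.comp_apply, LinearMap.rTensor_comp_lTensor, ← LinearMap.lTensor_comp_rTensor,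
        LinearMap.comp_apply, hz, map_zero]
    obtain ⟨z₁, rfl⟩ := (lTensor_exact N (LinearMap.exact_subtype_mkQ Q₁) Q₁.mkQ_surjective z).mp h3
    have h4 : u.rTensor Q₁ z₁ = 0 := by
      refine Module.Flat.lTensor_preserves_injective_linearMap (M := M) Q₁.subtype Q₁.subtype_injective ?_
      rw [map_zero, ← LinearMap.comp_apply, LinearMap.lTensor_comp_rTensor, ← LinearMap.rTensor_comp_lTensor,
        LinearMap.comp_apply, hz]
    rw [h1 (h4.trans (map_zero _).symm), map_zero]

/-- A universally injective submodule of a flat module is flat. -/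
theorem flat_of_univInj {N : Type u} [AddCommGroup N] [Module A N] [Module.Flat A M] (u : N →ₗ[A] M)
    (h : ∀ (Q : Type u) [AddCommGroup Q] [Module A Q], Function.Injective (u.rTensor Q)) : Module.Flat A N := by
  rw [Module.Flat.iff_lTensor_preserves_injective_linearMap]
  intro X Y _ _ _ _ f hf
  refine Function.Injective.of_comp (f := u.rTensor Y) ?_
  rw [← LinearMap.coe_comp, LinearMap.rTensor_comp_lTensor, ← LinearMap.lTensor_comp_rTensor, LinearMap.coe_comp]
  exact (Module.Flat.lTensor_preserves_injective_linearMap f hf).comp (h X)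

/-- With finitely many relations the map is universally injective and the source is flat. -/
theorem univInj_flat [IsLocalRing A] [Module.Flat A M] (hKA : KA.FG)
    (hq : IsLocalRing.maximalIdeal A ≤ q.comap C) (u : Nq KA q →ₗ[A] M)
    (hu : Function.Injective (u.lTensor (IsLocalRing.ResidueField A))) :
    (∀ (Q : Type u) [AddCommGroup Q] [Module A Q], Function.Injective (u.rTensor Q)) ∧
      Module.Flat A (Nq KA q) := by
  classical
  suffices h : ∀ (Q : Type u) [AddCommGroup Q] [Module A Q], Function.Injective (u.rTensor Q) from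
    ⟨h, flat_of_univInj u h⟩
  let qp : PrimeSpectrum (MvPolynomial (Fin n) A) := ⟨q, inferInstance⟩
  haveI : IsReduced (A ⧸ nilradical A) :=
    (Ideal.isRadical_iff_quotient_reduced _).mp (Ideal.radical_isRadical _)
  obtain ⟨qr, hqr⟩ := exists_prime_over qp (B := A ⧸ nilradical A) Ideal.Quotient.mk_surjective
    (by rw [Ideal.Quotient.algebraMap_eq, Ideal.mk_ker])
  have hred : qr ∈ flatSet (locN (A ⧸ nilradical A) KA) := by
    refine mem_flatSet_of_valuation (locN_fg _ hKA) qr fun W _ _ _ _ Q hQ hQm => ?_
    letI : Algebra A W := ((algebraMap (A ⧸ nilradical A) W).comp (algebraMap A _)).toAlgebra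
    haveI : IsScalarTower A (A ⧸ nilradical A) W := .of_algebraMap_eq fun _ => rfl
    rw [locN_locN]
    refine mem_flatSet_valuation hq u hu W Q ?_ hQm
    show _ = qp.asIdeal
    rw [← hqr, ← hQ, PrimeSpectrum.comap_asIdeal, PrimeSpectrum.comap_asIdeal, Ideal.comap_comap]
    congr 1
    exact MvPolynomial.ringHom_ext (fun c => by simp [RingHom.algebraMap_toAlgebra]) fun i => by simp
  obtain ⟨S₀, N₀, hS₀, hN₀⟩ := exists_base KA hKA
  haveI := hS₀
  rw [← hN₀] at hred
  obtain ⟨J, hJ, qJ, hqJ, hflat⟩ := exists_flat_nilpotent_aux N₀ qr hred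
  rw [hN₀] at hflat
  rw [hqr] at hqJ
  let A' := A ⧸ J
  have hA : Function.Surjective (algebraMap A A') := Ideal.Quotient.mk_surjective
  obtain ⟨e⟩ := exists_baseChange_localized KA q A' qJ.asIdeal hA (congrArg PrimeSpectrum.asIdeal hqJ)
  haveI : Module.Flat A' (Nq (locN A' KA) qJ.asIdeal) := hflat
  let ub : A' ⊗[A] Nq KA q →ₗ[A'] A' ⊗[A] M := u.baseChange A'
  let u' : Nq (locN A' KA) qJ.asIdeal →ₗ[A'] A' ⊗[A] M := ub ∘ₗ e.toLinearMap
  have transfer : ∀ (Q : Type u) [AddCommGroup Q] [Module A' Q] [Module A Q] [IsScalarTower A A' Q],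
      Function.Injective (u'.lTensor Q) ↔ Function.Injective (u.lTensor Q) := by
    intro Q _ _ _ _
    let eN := AlgebraTensorModule.cancelBaseChange A A' A' Q (Nq KA q)
    let eM := AlgebraTensorModule.cancelBaseChange A A' A' Q M
    have h2 : ∀ x, u.lTensor Q (eN x) = eM (ub.lTensor Q x) := fun x => by
      induction x using TensorProduct.induction_on with
      | zero => simp
      | tmul c y =>
        induction y using TensorProduct.induction_on with
        | zero => simp
        | tmul r m => simp [eN, eM, ub]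
        | add x y hx hy => simp only [TensorProduct.tmul_add, map_add, hx, hy]
      | add x y hx hy => simp only [map_add, hx, hy]
    have h1 : Function.Injective (ub.lTensor Q) ↔ Function.Injective (u.lTensor Q) := by
      constructor
      · intro hi x y hxy
        obtain ⟨x', rfl⟩ := eN.surjective x
        obtain ⟨y', rfl⟩ := eN.surjective y
        rw [h2, h2] at hxy
        exact congrArg eN (hi (eM.injective hxy))
      · intro hi x y hxy
        apply eN.injective
        apply hi
        rw [h2, h2, hxy]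
    rw [← h1, LinearMap.lTensor_comp, LinearMap.coe_comp]
    exact Function.Injective.of_comp_iff' _ (LinearEquiv.lTensor Q e).bijective
  haveI : Module.FinitePresentation (MvPolynomial (Fin n) A') (FreeMod A' a n ⧸ locN A' KA) :=
    Module.finitePresentation_of_free_of_surjective (locN A' KA).mkQ (locN A' KA).mkQ_surjective
      (by rw [Submodule.ker_mkQ]; exact locN_fg _ hKA)
  have hu' := UnivInjFib.univInj_of_fibres qJ.asIdeal.primeCompl
    (LocalizedModule.mkLinearMap qJ.asIdeal.primeCompl (FreeMod A' a n ⧸ locN A' KA)) u' (fun p _ => by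
      rw [transfer, LinearMap.lTensor_inj_iff_rTensor_inj]
      exact fibre_injective hq u hu p.ResidueField)
  intro Q _ _
  refine injective_of_nilpotent u J hJ (fun Q _ _ _ _ => ?_) Q
  rw [← LinearMap.lTensor_inj_iff_rTensor_inj, ← transfer, LinearMap.lTensor_inj_iff_rTensor_inj]
  exact hu' Q

end Groth.Agent.UILLib
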