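import Groth.Agent.UILLib.Core
import Mathlib.RingTheory.Valuation.LocalSubring
import Mathlib.RingTheory.Ideal.GoingDown

/-!
# Valuations centred at points of the localized polynomial ring
-/

set_option autoImplicit false
set_option linter.style.haveILetI false
set_option linter.unusedSectionVars false
set_option maxHeartbeats 1000000
set_option backward.isDefEq.respectTransparency false

universe u

open MvPolynomial Groth.Agent.GenFree Groth.Agent.FlatLocus Groth.Agent.RGFlatLib

noncomputable section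

namespace Groth.Agent.UILLib

theorem mul_lt_one_left {Γ : Type*} [LinearOrderedCommGroupWithZero Γ] {x y : Γ} (hx : x ≤ 1) (hy : y < 1) :
    x * y < 1 :=
  lt_of_le_of_lt (by simpa using mul_le_mul_of_nonneg_right hx (zero_le (a := y))) hy

section Coeff

variable {L : Type u} [Field L] {a n : ℕ}

/-- Polynomials with coefficients in a valuation ring. -/
def polyIn (V : ValuationSubring L) : Subring (MvPolynomial (Fin n) L) :=
  (MvPolynomial.map V.subtype).range

/-- Polynomials with coefficients in the maximal ideal. -/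
def PolyNon (V : ValuationSubring L) (p : MvPolynomial (Fin n) L) : Prop :=
  ∀ e, coeff e p ∈ V.nonunits

/-- Vectors with coefficients in a valuation ring. -/
def VecIn (V : ValuationSubring L) (g : FreeMod L a n) : Prop :=
  ∀ i, g i ∈ polyIn V

/-- Vectors with coefficients in the maximal ideal. -/
def VecNon (V : ValuationSubring L) (g : FreeMod L a n) : Prop :=
  ∀ i, PolyNon V (g i)

theorem mem_polyIn {V : ValuationSubring L} {p : MvPolynomial (Fin n) L} :
    p ∈ polyIn V ↔ ∀ e, coeff e p ∈ V := by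
  classical
  constructor
  · rintro ⟨p, rfl⟩ e
    rw [coeff_map]
    exact (coeff e p).2
  · intro h
    refine ⟨∑ e ∈ p.support, monomial e ⟨coeff e p, h e⟩, ?_⟩
    rw [map_sum]
    simp only [map_monomial]
    exact p.as_sum.symm

theorem polyIn_mono {V V' : ValuationSubring L} (h : V ≤ V') {p : MvPolynomial (Fin n) L}
    (hp : p ∈ polyIn V) : p ∈ polyIn V' :=
  mem_polyIn.mpr fun e => h (mem_polyIn.mp hp e)

theorem C_mem_polyIn {V : ValuationSubring L} {b : L} (hb : b ∈ V) :
    (C b : MvPolynomial (Fin n) L) ∈ polyIn V :=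
  ⟨C ⟨b, hb⟩, by rw [map_C]; rfl⟩

theorem PolyNon.mul_left {V : ValuationSubring L} {p q : MvPolynomial (Fin n) L} (hp : p ∈ polyIn V)
    (hq : PolyNon V q) : PolyNon V (p * q) := by
  classical
  intro e
  rw [coeff_mul]
  refine sum_mem fun x _ => ?_
  have h1 := (V.valuation_le_one_iff _).mpr (mem_polyIn.mp hp x.1)
  have h2 := V.mem_nonunits_iff.mp (hq x.2)
  rw [V.mem_nonunits_iff, map_mul]
  exact mul_lt_one_left h1 h2

theorem PolyNon.mem_polyIn {V : ValuationSubring L} {q : MvPolynomial (Fin n) L} (hq : PolyNon V q) :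
    q ∈ polyIn V :=
  Groth.Agent.UILLib.mem_polyIn.mpr fun e => V.nonunits_subset (hq e)

theorem VecIn.smul {V : ValuationSubring L} {p : MvPolynomial (Fin n) L} (hp : p ∈ polyIn V)
    {g : FreeMod L a n} (hg : VecIn V g) : VecIn V (p • g) :=
  fun i => (polyIn V).mul_mem hp (hg i)

theorem VecIn.smul_scalar {V : ValuationSubring L} {b : L} (hb : b ∈ V) {g : FreeMod L a n}
    (hg : VecIn V g) : VecIn V (b • g) := fun i => by
  rw [Pi.smul_apply, smul_eq_C_mul]
  exact (polyIn V).mul_mem (C_mem_polyIn hb) (hg i)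

theorem VecIn.add {V : ValuationSubring L} {g g' : FreeMod L a n} (hg : VecIn V g) (hg' : VecIn V g') :
    VecIn V (g + g') :=
  fun i => (polyIn V).add_mem (hg i) (hg' i)

theorem VecIn.sub {V : ValuationSubring L} {g g' : FreeMod L a n} (hg : VecIn V g) (hg' : VecIn V g') :
    VecIn V (g - g') :=
  fun i => (polyIn V).sub_mem (hg i) (hg' i)

theorem VecIn.mono {V V' : ValuationSubring L} (h : V ≤ V') {g : FreeMod L a n} (hg : VecIn V g) :
    VecIn V' g :=
  fun i => polyIn_mono h (hg i)

theorem VecNon.smul {V : ValuationSubring L} {p : MvPolynomial (Fin n) L} (hp : p ∈ polyIn V)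
    {g : FreeMod L a n} (hg : VecNon V g) : VecNon V (p • g) :=
  fun i => (hg i).mul_left hp

theorem VecNon.vecIn {V : ValuationSubring L} {g : FreeMod L a n} (hg : VecNon V g) : VecIn V g :=
  fun i => (hg i).mem_polyIn

theorem VecNon.smul_vecIn {V : ValuationSubring L} {b : L} (hb : b ∈ V.nonunits) {g : FreeMod L a n}
    (hg : VecIn V g) : VecNon V (b • g) := fun i e => by
  rw [Pi.smul_apply, coeff_smul, smul_eq_mul, V.mem_nonunits_iff, map_mul]
  rw [mul_comm]
  exact mul_lt_one_left ((V.valuation_le_one_iff _).mpr (mem_polyIn.mp (hg i) e)) (V.mem_nonunits_iff.mp hb)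

theorem vecNon_zero {V : ValuationSubring L} : VecNon V (0 : FreeMod L a n) := fun i e => by
  rw [Pi.zero_apply, coeff_zero, V.mem_nonunits_iff, map_zero]
  exact zero_lt_one

theorem VecIn.exists_phi {V : ValuationSubring L} {g : FreeMod L a n} (hg : VecIn V g) :
    ∃ g' : FreeMod V a n, phi L g' = g :=
  exists_phi_eq g fun i => ⟨⟨co i g, mem_polyIn.mp (hg i.1) i.2⟩, rfl⟩

theorem vecIn_phi {V : ValuationSubring L} (g : FreeMod V a n) : VecIn V (phi L g) :=
  fun i => ⟨g i, (phi_apply L g i).symm⟩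

theorem vecNon_phi {V : ValuationSubring L} {g : FreeMod V a n} (hg : g ∈ cf (IsLocalRing.maximalIdeal V)) :
    VecNon V (phi L g) := fun i e => by
  rw [show coeff e ((phi L g) i) = co (i, e) (phi L g) from rfl, co_phi]
  exact ValuationSubring.coe_mem_nonunits_iff.mpr (mem_cf.mp hg (i, e))

theorem VecNon.exists_phi {V : ValuationSubring L} {g : FreeMod L a n} (hg : VecNon V g) :
    ∃ g' ∈ cf (IsLocalRing.maximalIdeal V), phi L g' = g := by
  obtain ⟨g', rfl⟩ := hg.vecIn.exists_phi
  refine ⟨g', mem_cf.mpr fun i => ?_, rfl⟩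
  have h := hg i.1 i.2
  rw [show coeff i.2 ((phi L g') i.1) = co i (phi L g') from rfl, co_phi] at h
  exact ValuationSubring.coe_mem_nonunits_iff.mp h

theorem eval₂_mem {K : Type u} [Field K] {V : ValuationSubring L} (φ : K →+* L) (pt : Fin n → L)
    (hpt : ∀ i, pt i ∈ V) {s : MvPolynomial (Fin n) K} (hs : ∀ e, φ (coeff e s) ∈ V) :
    eval₂ φ pt s ∈ V := by
  rw [eval₂_eq']
  exact V.toSubring.sum_mem fun e _ => V.mul_mem _ _ (hs e)
    (V.toSubring.prod_mem fun i _ => V.toSubring.pow_mem (hpt i) _)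

theorem eval₂_mem_nonunits {K : Type u} [Field K] {V : ValuationSubring L} (φ : K →+* L) (pt : Fin n → L)
    (hpt : ∀ i, pt i ∈ V) {s : MvPolynomial (Fin n) K} (hs : ∀ e, φ (coeff e s) ∈ V.nonunits) :
    eval₂ φ pt s ∈ V.nonunits := by
  rw [eval₂_eq']
  refine sum_mem fun e _ => ?_
  rw [V.mem_nonunits_iff, map_mul]
  rw [mul_comm]
  exact mul_lt_one_left ((V.valuation_le_one_iff _).mpr (V.toSubring.prod_mem fun i _ => V.toSubring.pow_mem (hpt i) _))
    (V.mem_nonunits_iff.mp (hs e))

theorem notMem_nonunits_mul {V : ValuationSubring L} {x y : L} (hxV : x ∈ V) (hyV : y ∈ V)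
    (hx : x ∉ V.nonunits) (hy : y ∉ V.nonunits) : x * y ∉ V.nonunits := by
  rw [V.mem_nonunits_iff] at hx hy ⊢
  rw [not_lt] at hx hy ⊢
  rw [map_mul]
  exact one_le_mul hx hy

/-- Finitely many elements of a larger valuation ring have a common denominator which is a unit there. -/
theorem exists_denominator {V₀ V : ValuationSubring L} (h : V₀ ≤ V) (S : Finset L) (hS : ∀ x ∈ S, x ∈ V) :
    ∃ b ∈ V₀, V.valuation b = 1 ∧ ∀ x ∈ S, b * x ∈ V₀ := by
  classical
  induction S using Finset.induction_on with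
  | empty => exact ⟨1, V₀.one_mem, map_one _, by simp⟩
  | insert x S hxS ih =>
    obtain ⟨b, hb, hb1, hbS⟩ := ih fun y hy => hS y (Finset.mem_insert_of_mem hy)
    by_cases hbx : b * x ∈ V₀
    · exact ⟨b, hb, hb1, fun y hy => (Finset.mem_insert.mp hy).elim (fun h => h ▸ hbx) (hbS y)⟩
    have hinv : (b * x)⁻¹ ∈ V₀ := (V₀.mem_or_inv_mem _).resolve_left hbx
    have hx0 : b * x ≠ 0 := fun h0 => hbx (h0 ▸ V₀.zero_mem)
    refine ⟨(b * x)⁻¹ * b, V₀.mul_mem _ _ hinv hb, ?_, fun y hy => ?_⟩
    · rw [map_mul, hb1, mul_one, map_inv₀, inv_eq_one, map_mul, hb1, one_mul]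
      refine le_antisymm ((V.valuation_le_one_iff _).mpr (hS x (Finset.mem_insert_self _ _))) ?_
      have h1 := (V.valuation_le_one_iff _).mpr (h hinv)
      rw [map_inv₀, map_mul, hb1, one_mul] at h1
      exact (inv_le_one₀ (zero_lt_iff.mpr ((Valuation.ne_zero_iff _).mpr (right_ne_zero_of_mul hx0)))).mp h1
    · rcases Finset.mem_insert.mp hy with rfl | hy
      · rw [mul_assoc, inv_mul_cancel₀ hx0]; exact V₀.one_mem
      · rw [mul_assoc]; exact V₀.mul_mem _ _ hinv (hbS y hy)

end Coeff

variable {A : Type u} [CommRing A] {n : ℕ}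

/-- A valuation ring with a point at which the multiplicative set consists of units. -/
structure Mem (T : Submonoid (MvPolynomial (Fin n) A)) (κ : Type u) [Field κ] [Algebra A κ] where
  /-- the field -/
  L : Type u
  [field : Field L]
  /-- the embedding of the residue field -/
  ψ : κ →+* L
  /-- the valuation ring -/
  V : ValuationSubring L
  /-- the point -/
  pt : Fin n → L
  pt_mem : ∀ i, pt i ∈ V
  base_mem : ∀ x : A, ψ (algebraMap A κ x) ∈ V
  unit_mem : ∀ t ∈ T, eval₂ (ψ.comp (algebraMap A κ)) pt t ∉ V.nonunits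

attribute [instance] Mem.field

variable {T : Submonoid (MvPolynomial (Fin n) A)} {κ : Type u} [Field κ] [Algebra A κ]

namespace Mem

variable (m : Mem T κ) {K : Type u} [Field K] (ι : K →+* κ)

/-- The embedding of the field of definition. -/
def σ : K →+* m.L := m.ψ.comp ι

/-- The induced valuation ring of the field of definition. -/
def comap : ValuationSubring K := m.V.comap (m.σ ι)

/-- Evaluation at the point. -/
def ev : MvPolynomial (Fin n) K →+* m.L := eval₂Hom (m.σ ι) m.pt

/-- The base ring in the valuation ring. -/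
def baseHom : A →+* m.V := (m.ψ.comp (algebraMap A κ)).codRestrict m.V.toSubring m.base_mem

theorem mem_comap {x : K} : x ∈ m.comap ι ↔ m.σ ι x ∈ m.V := Iff.rfl

theorem mem_nonunits_comap {x : K} : x ∈ (m.comap ι).nonunits ↔ m.σ ι x ∈ m.V.nonunits := by
  rw [ValuationSubring.mem_nonunits_iff_or, ValuationSubring.mem_nonunits_iff_or]
  exact or_congr (map_eq_zero (m.σ ι)).symm (by rw [mem_comap, map_inv₀])

theorem ev_C (b : K) : m.ev ι (C b) = m.σ ι b := eval₂_C _ _ b

theorem ev_mem {s : MvPolynomial (Fin n) K} (hs : s ∈ polyIn (m.comap ι)) : m.ev ι s ∈ m.V :=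
  eval₂_mem _ _ m.pt_mem fun e => mem_polyIn.mp hs e

theorem ev_nonunit {s : MvPolynomial (Fin n) K} (hs : PolyNon (m.comap ι) s) :
    m.ev ι s ∈ m.V.nonunits :=
  eval₂_mem_nonunits _ _ m.pt_mem fun e => (m.mem_nonunits_comap ι).mp (hs e)

/-- The same point with a larger valuation ring. -/
def coarsen (V' : ValuationSubring m.L) (h : m.V ≤ V') : Mem T κ where
  L := m.L
  ψ := m.ψ
  V := V'
  pt := m.pt
  pt_mem i := h (m.pt_mem i)
  base_mem x := h (m.base_mem x)
  unit_mem t ht hn := m.unit_mem t ht (ValuationSubring.nonunits_le_nonunits.mpr h hn)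

end Mem

/-- The data of the vanishing problem. -/
structure Prob (κ : Type u) [Field κ] (a n : ℕ) where
  /-- the field of definition -/
  K : Type u
  [field : Field K]
  /-- its embedding -/
  ι : K →+* κ
  /-- the relations -/
  U : Submodule (MvPolynomial (Fin n) K) (FreeMod K a n)
  /-- the vector -/
  f : FreeMod K a n

attribute [instance] Prob.field

variable {a : ℕ} (P : Prob κ a n)

/-- At the point the vector is a multiple of `c`. -/
def Prob.Div (m : Mem T κ) (c : P.K) : Prop :=
  ∃ (s : MvPolynomial (Fin n) P.K) (g : FreeMod P.K a n), s ∈ polyIn (m.comap P.ι) ∧ m.ev P.ι s ∉ m.V.nonunits ∧ VecIn (m.comap P.ι) g ∧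
    s • P.f - c • g ∈ P.U

/-- At the point the vector is a multiple of `c` by a vector vanishing there. -/
def Prob.DivP (m : Mem T κ) (c : P.K) : Prop :=
  ∃ (s : MvPolynomial (Fin n) P.K) (g : FreeMod P.K a n), s ∈ polyIn (m.comap P.ι) ∧ m.ev P.ι s ∉ m.V.nonunits ∧ VecNon (m.comap P.ι) g ∧
    s • P.f - c • g ∈ P.U

variable (T) in
/-- The vector is a multiple of `c` at all points over larger valuation rings. -/
def Prob.IntAt (V₀ : ValuationSubring P.K) (c : P.K) : Prop :=
  ∀ m : Mem T κ, V₀ ≤ m.comap P.ι → P.Div m c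

variable (T) in
/-- The induction statement. -/
def Prob.Vanish (V₀ : ValuationSubring P.K) : Prop :=
  ∀ c : P.K, P.IntAt T V₀ c → ∀ m : Mem T κ, m.comap P.ι = V₀ → P.DivP m c

theorem Prob.DivP.of_coarsen {m : Mem T κ} {V' : ValuationSubring m.L} {h : m.V ≤ V'} {c : P.K}
    (hc : P.DivP m c) (he : (m.coarsen V' h).comap P.ι = m.comap P.ι) :
    P.DivP (m.coarsen V' h) c := by
  obtain ⟨s, g, hs, hev, hg, heq⟩ := hc
  exact ⟨s, g, he ▸ hs, fun hn => hev (ValuationSubring.nonunits_le_nonunits.mpr h hn), he ▸ hg, heq⟩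

theorem Prob.Div.of_dvd {m : Mem T κ} {c c' e : P.K} (hc : P.Div m c) (he : e ∈ m.comap P.ι)
    (h : c = c' * e) : P.Div m c' := by
  obtain ⟨s, g, hs, hev, hg, heq⟩ := hc
  exact ⟨s, e • g, hs, hev, hg.smul_scalar he, by rw [smul_smul, ← h]; exact heq⟩

/-- Divisibility over a larger valuation ring, with coefficients in the smaller one. -/
theorem Prob.Div.exists_in {m : Mem T κ} {c : P.K} (hc : P.Div m c) {V₀ : ValuationSubring P.K}
    (h : V₀ ≤ m.comap P.ι) :
    ∃ (s : MvPolynomial (Fin n) P.K) (g : FreeMod P.K a n), s ∈ polyIn V₀ ∧ m.ev P.ι s ∉ m.V.nonunits ∧ VecIn V₀ g ∧ s • P.f - c • g ∈ P.U := by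
  classical
  obtain ⟨s, g, hs, hev, hg, heq⟩ := hc
  obtain ⟨b, hb, hb1, hbS⟩ := exists_denominator h
    ((s.support.image fun e => coeff e s) ∪ (finite_support g).toFinset.image fun i => co i g) (by
      intro x hx
      rcases Finset.mem_union.mp hx with hx | hx
      · obtain ⟨e, -, rfl⟩ := Finset.mem_image.mp hx
        exact mem_polyIn.mp hs e
      · obtain ⟨i, -, rfl⟩ := Finset.mem_image.mp hx
        exact mem_polyIn.mp (hg i.1) i.2)
  have hbn : m.σ P.ι b ∉ m.V.nonunits := fun hn => by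
    rw [← m.mem_nonunits_comap, ValuationSubring.mem_nonunits_iff, hb1] at hn
    exact lt_irrefl _ hn
  refine ⟨C b * s, b • g, mem_polyIn.mpr fun e => ?_, ?_, fun i => mem_polyIn.mpr fun e => ?_, ?_⟩
  · rw [coeff_C_mul]
    by_cases h0 : coeff e s = 0
    · rw [h0, mul_zero]; exact V₀.zero_mem
    · exact hbS _ (Finset.mem_union_left _ (Finset.mem_image_of_mem _ (mem_support_iff.mpr h0)))
  · rw [map_mul, m.ev_C]
    exact notMem_nonunits_mul (h hb) (m.ev_mem P.ι hs) hbn hev
  · rw [Pi.smul_apply, coeff_smul, smul_eq_mul]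
    by_cases h0 : coeff e (g i) = 0
    · rw [h0, mul_zero]; exact V₀.zero_mem
    · exact hbS _ (Finset.mem_union_right _ (Finset.mem_image_of_mem (fun i => co i g) (a := (i, e))
        ((finite_support g).mem_toFinset.mpr h0)))
  · rw [mul_smul, smul_comm c b g, ← algebraMap_smul (MvPolynomial (Fin n) P.K) b (c • g),
      MvPolynomial.algebraMap_eq, ← smul_sub]
    exact P.U.smul_mem _ heq

/-- A prime of a polynomial ring over a valuation ring is the centre of a valuation at a point over the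
fraction field. -/
theorem exists_valuation_of_prime {V L : Type u} [CommRing V] [IsDomain V] [Field L] [Algebra V L]
    [IsFractionRing V L] (Q : Ideal (MvPolynomial (Fin n) V)) [Q.IsPrime] :
    ∃ (L' : Type u) (_ : Field L') (τ : L →+* L') (B : ValuationSubring L') (pt : Fin n → L'),
      (∀ p, eval₂ (τ.comp (algebraMap V L)) pt p ∈ B) ∧
      ∀ p, eval₂ (τ.comp (algebraMap V L)) pt p ∈ B.nonunits ↔ p ∈ Q := by
  classical
  obtain ⟨Q₀, hQ₀Q, hQ₀, hover⟩ := Ideal.exists_ideal_le_liesOver_of_le (p := (⊥ : Ideal V))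
    (q := Q.under V) Q bot_le
  haveI := hQ₀
  let L' := Q₀.ResidueField
  let j : MvPolynomial (Fin n) V →+* L' := algebraMap _ L'
  have hjker : ∀ p, j p = 0 ↔ p ∈ Q₀ := fun p => Ideal.algebraMap_residueField_eq_zero
  have hinj : Function.Injective (j.comp C) := by
    rw [injective_iff_map_eq_zero]
    intro v hv
    have h1 : v ∈ Q₀.under V := (hjker _).mp hv
    rw [← hover.over] at h1
    exact h1
  let τ : L →+* L' := IsFractionRing.lift (A := V) (K := L) hinj
  let f : Localization.AtPrime Q →+* L' :=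
    IsLocalization.lift (M := Q.primeCompl) (g := j) fun s => isUnit_iff_ne_zero.mpr fun h0 => s.2 (hQ₀Q ((hjker _).mp h0))
  obtain ⟨B, hB, hloc⟩ := IsLocalRing.exists_factor_valuationRing f
  haveI := hloc
  let θ : MvPolynomial (Fin n) V →+* B :=
    (f.codRestrict B.toSubring hB).comp (algebraMap _ (Localization.AtPrime Q))
  have hθ : ∀ p, (θ p : L') = j p := fun p => IsLocalization.lift_eq _ p
  have heq : ∀ p, eval₂ (τ.comp (algebraMap V L)) (fun i => j (X i)) p = j p := fun p => by
    refine DFunLike.congr_fun (MvPolynomial.ringHom_ext (f := eval₂Hom (τ.comp (algebraMap V L)) fun i => j (X i))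
      (g := j) (fun v => ?_) fun i => ?_) p
    · rw [eval₂Hom_C, RingHom.comp_apply]
      exact IsFractionRing.lift_algebraMap hinj v
    · rw [eval₂Hom_X']
  refine ⟨L', inferInstance, τ, B, fun i => j (X i), fun p => ?_, fun p => ?_⟩
  · rw [heq, ← hθ]
    exact (θ p).2
  rw [heq, ← hθ, ValuationSubring.coe_mem_nonunits_iff,
    ← IsLocalization.AtPrime.to_map_mem_maximal_iff (Localization.AtPrime Q) Q p]
  simp only [IsLocalRing.mem_maximalIdeal, mem_nonunits_iff]
  exact not_congr ⟨fun hu => IsUnit.of_map (f.codRestrict B.toSubring hB) _ hu,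
    fun hu => hu.map (f.codRestrict B.toSubring hB)⟩

/-- A prime of the polynomial ring over the valuation ring gives a point over a larger valuation ring. -/
theorem exists_mem_of_prime (m : Mem T κ) {K : Type u} [Field K] (ι : K →+* κ) (Q : Ideal (MvPolynomial (Fin n) m.V)) [Q.IsPrime]
    (hT : ∀ t ∈ T, MvPolynomial.map m.baseHom t ∉ Q) :
    ∃ m' : Mem T κ, m.comap ι ≤ m'.comap ι ∧
      ∀ (s : MvPolynomial (Fin n) K) (p : MvPolynomial (Fin n) m.V),
        MvPolynomial.map m.V.subtype p = MvPolynomial.map (m.σ ι) s →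
          (p ∈ Q ↔ m'.ev ι s ∈ m'.V.nonunits) := by
  obtain ⟨L', _, τ, B, pt, hmem, hnon⟩ := exists_valuation_of_prime (L := m.L) Q
  have hbase : (τ.comp m.ψ).comp (algebraMap A κ) = (τ.comp (algebraMap m.V m.L)).comp m.baseHom := rfl
  refine ⟨{ L := L', ψ := τ.comp m.ψ, V := B, pt := pt,
            pt_mem := fun i => by simpa using hmem (X i),
            base_mem := fun x => ?_, unit_mem := fun t ht => ?_ }, fun z hz => ?_, fun s p hp => ?_⟩
  · have h := hmem (C (m.baseHom x))
    rwa [eval₂_C] at h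
  · rw [hbase, ← eval₂_map, hnon]
    exact hT t ht
  · show τ (m.σ ι z) ∈ B
    have h := hmem (C (⟨_, hz⟩ : m.V))
    rwa [eval₂_C] at h
  · rw [← hnon]
    have h : eval₂ (τ.comp (algebraMap m.V m.L)) pt p = eval₂ τ pt (MvPolynomial.map m.V.subtype p) :=
      (eval₂_map _ _ _ _).symm
    rw [h, hp, eval₂_map]
    rfl

/-- Every point specializes to one centred at a given prime. -/
theorem exists_refinement (q : Ideal (MvPolynomial (Fin n) A)) [q.IsPrime] (hTq : T = q.primeCompl)
    (m : Mem T κ) :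
    ∃ (W : ValuationSubring m.L) (h : W ≤ m.V) (hpt : ∀ i, m.pt i ∈ W)
      (hb : ∀ x : A, m.ψ (algebraMap A κ x) ∈ W),
      (∀ p ∈ q, eval₂ (m.ψ.comp (algebraMap A κ)) m.pt p ∈ W.nonunits) ∧
        ∀ t ∈ T, eval₂ (m.ψ.comp (algebraMap A κ)) m.pt t ∉ W.nonunits := by
  subst hTq
  let k := IsLocalRing.ResidueField m.V
  let ρV : MvPolynomial (Fin n) A →+* m.V := eval₂Hom m.baseHom fun i => ⟨m.pt i, m.pt_mem i⟩
  have hρV : ∀ p, (ρV p : m.L) = eval₂ (m.ψ.comp (algebraMap A κ)) m.pt p := fun p =>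
    DFunLike.congr_fun (MvPolynomial.ringHom_ext (f := m.V.subtype.comp ρV)
      (g := eval₂Hom (m.ψ.comp (algebraMap A κ)) m.pt)
      (fun x => by simp [ρV]; rfl) fun i => by simp [ρV]) p
  let ρ : MvPolynomial (Fin n) A →+* k := (IsLocalRing.residue m.V).comp ρV
  let f : Localization.AtPrime q →+* k := IsLocalization.lift (g := ρ) fun s => isUnit_iff_ne_zero.mpr fun h0 => by
    refine m.unit_mem s.1 s.2 ?_
    rw [← hρV]
    exact ValuationSubring.coe_mem_nonunits_iff.mpr (Ideal.Quotient.eq_zero_iff_mem.mp h0)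
  obtain ⟨B, hB, hloc⟩ := IsLocalRing.exists_factor_valuationRing f
  haveI := hloc
  let S : Subring m.L := (B.toSubring.comap (IsLocalRing.residue m.V)).map m.V.subtype
  have hS : ∀ x : m.V, (x : m.L) ∈ S ↔ IsLocalRing.residue m.V x ∈ B := fun x =>
    ⟨fun ⟨y, hy, hyx⟩ => (Subtype.ext hyx : y = x) ▸ hy, fun h => ⟨x, h, rfl⟩⟩
  have htot : ∀ x : m.L, x ∈ S ∨ x⁻¹ ∈ S := by
    intro x
    by_cases hx : x ∈ m.V
    · rcases B.mem_or_inv_mem (IsLocalRing.residue m.V ⟨x, hx⟩) with h | h
      · exact Or.inl ((hS ⟨x, hx⟩).mpr h)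
      by_cases hu : IsUnit (⟨x, hx⟩ : m.V)
      · obtain ⟨u, hu⟩ := hu
        refine Or.inr ?_
        have h1 : x⁻¹ = ((u⁻¹ : m.Vˣ) : m.V) := by
          rw [inv_eq_of_mul_eq_one_right]
          have := congrArg Subtype.val u.mul_inv
          rw [hu] at this
          exact this
        rw [h1, hS]
        rwa [map_units_inv, hu]
      · refine Or.inl ((hS ⟨x, hx⟩).mpr ?_)
        rw [show IsLocalRing.residue m.V ⟨x, hx⟩ = 0 from Ideal.Quotient.eq_zero_iff_mem.mpr
          ((IsLocalRing.mem_maximalIdeal _).mpr hu)]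
        exact B.zero_mem
    · have hinv := (m.V.mem_or_inv_mem x).resolve_left hx
      refine Or.inr ((hS ⟨x⁻¹, hinv⟩).mpr ?_)
      rw [show IsLocalRing.residue m.V ⟨x⁻¹, hinv⟩ = 0 from Ideal.Quotient.eq_zero_iff_mem.mpr
        (ValuationSubring.coe_mem_nonunits_iff.mp
          ((m.V.inv_mem_nonunits_iff).mpr (Or.inr hx)))]
      exact B.zero_mem
  have hθ : ∀ p, IsLocalRing.residue m.V (ρV p) ∈ B := fun p => by
    have := hB (algebraMap _ (Localization.AtPrime q) p)
    rwa [IsLocalization.lift_eq] at this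
  have hmem : ∀ x : m.L, x ∈ ValuationSubring.ofSubring S htot ↔ x ∈ S := fun x => Iff.rfl
  have hρS : ∀ p, eval₂ (m.ψ.comp (algebraMap A κ)) m.pt p ∈ S := fun p => by
    rw [← hρV]; exact (hS _).mpr (hθ p)
  have hnon : ∀ p, eval₂ (m.ψ.comp (algebraMap A κ)) m.pt p ∈ (ValuationSubring.ofSubring S htot).nonunits ↔
      p ∈ q := fun p => by
    rw [← hρV, ValuationSubring.mem_nonunits_iff_or]
    have hf : f (algebraMap _ (Localization.AtPrime q) p) = IsLocalRing.residue m.V (ρV p) :=
      IsLocalization.lift_eq _ p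
    constructor
    · rintro (h | h)
      · by_contra hp
        refine m.unit_mem p hp ?_
        rw [← hρV, h]
        exact (m.V.mem_nonunits_iff).mpr (by rw [map_zero]; exact zero_lt_one)
      · by_contra hp
        apply h
        have hu : IsUnit (f.codRestrict B.toSubring hB (algebraMap _ (Localization.AtPrime q) p)) :=
          (IsLocalization.map_units (Localization.AtPrime q) (⟨p, hp⟩ : q.primeCompl)).map _
        obtain ⟨w, hw⟩ := hu
        have hur : IsUnit (ρV p) := by
          by_contra hnu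
          refine m.unit_mem p hp ?_
          rw [← hρV]
          exact ValuationSubring.coe_mem_nonunits_iff.mpr ((IsLocalRing.mem_maximalIdeal _).mpr hnu)
        obtain ⟨v, hv⟩ := hur
        have h1 : ((ρV p : m.L))⁻¹ = ((v⁻¹ : m.Vˣ) : m.V) := by
          rw [inv_eq_of_mul_eq_one_right]
          have := congrArg Subtype.val v.mul_inv
          rw [hv] at this
          exact this
        rw [hmem, h1, hS, map_units_inv, hv]
        have h2 := congrArg Subtype.val (show (↑w⁻¹ : B.toSubring) * ↑w = 1 from Units.inv_mul w)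
        rw [hw] at h2
        rw [← hf, show (f (algebraMap _ (Localization.AtPrime q) p))⁻¹ = _ from inv_eq_of_mul_eq_one_left h2]
        exact ((w⁻¹ : (B.toSubring)ˣ) : B.toSubring).2
    · intro hp
      refine or_iff_not_imp_left.mpr fun h0 hinv => ?_
      have hvinv : ((ρV p : m.L))⁻¹ ∈ S := (hmem _).mp hinv
      obtain ⟨y, hy, hyx⟩ := hvinv
      have hmul : ρV p * y = 1 := Subtype.ext (by
        show (ρV p : m.L) * m.V.subtype y = 1
        rw [hyx, mul_inv_cancel₀ h0])
      have hu : IsUnit (f.codRestrict B.toSubring hB (algebraMap _ (Localization.AtPrime q) p)) := by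
        refine IsUnit.of_mul_eq_one ⟨IsLocalRing.residue m.V y, hy⟩ (Subtype.ext ?_)
        show f (algebraMap _ (Localization.AtPrime q) p) * IsLocalRing.residue m.V y = 1
        rw [hf, ← map_mul, hmul, map_one]
      exact (IsLocalization.AtPrime.isUnit_to_map_iff (Localization.AtPrime q) q p).mp
        (IsUnit.of_map (f.codRestrict B.toSubring hB) _ hu) hp
  refine ⟨ValuationSubring.ofSubring S htot, fun x hx => ?_, fun i => ?_, fun x => ?_,
    fun p hp => (hnon p).mpr hp, fun t ht h => ht ((hnon t).mp h)⟩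
  · obtain ⟨y, -, rfl⟩ := hx
    exact y.2
  · rw [hmem]; simpa using hρS (X i)
  · rw [hmem]; simpa using hρS (C x)

/-- A valuation ring between two with prescribed trace on the field of definition. -/
theorem exists_coarsening {L : Type u} [Field L] {K : Type u} [Field K] (σ : K →+* L)
    (W : ValuationSubring L) (V₁ : ValuationSubring K) (h : W.comap σ ≤ V₁) :
    ∃ V' : ValuationSubring L, W ≤ V' ∧ V'.comap σ = V₁ ∧
      ∀ V : ValuationSubring L, W ≤ V → V₁ ≤ V.comap σ → V' ≤ V := by
  let S : Subring L :=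
    { carrier := {x | ∃ b, σ b ∈ W ∧ V₁.valuation b = 1 ∧ σ b * x ∈ W}
      zero_mem' := ⟨1, by simp, map_one _, by simp⟩
      one_mem' := ⟨1, by simp, map_one _, by simp⟩
      add_mem' := by
        rintro x y ⟨b, hb, hb1, hbx⟩ ⟨c, hc, hc1, hcy⟩
        refine ⟨b * c, by rw [map_mul]; exact W.mul_mem _ _ hb hc, by rw [map_mul, hb1, hc1, one_mul], ?_⟩
        rw [map_mul, mul_add]
        exact W.add_mem _ _ (by rw [mul_right_comm]; exact W.mul_mem _ _ hbx hc)
          (by rw [mul_assoc]; exact W.mul_mem _ _ hb hcy)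
      mul_mem' := by
        rintro x y ⟨b, hb, hb1, hbx⟩ ⟨c, hc, hc1, hcy⟩
        refine ⟨b * c, by rw [map_mul]; exact W.mul_mem _ _ hb hc, by rw [map_mul, hb1, hc1, one_mul], ?_⟩
        rw [map_mul, mul_mul_mul_comm]
        exact W.mul_mem _ _ hbx hcy
      neg_mem' := by
        rintro x ⟨b, hb, hb1, hbx⟩
        exact ⟨b, hb, hb1, by rw [mul_neg]; exact W.neg_mem _ hbx⟩ }
  have hle : W.toSubring ≤ S := fun x hx => ⟨1, by simp, map_one _, by simpa using hx⟩
  refine ⟨ValuationSubring.ofLE W S hle, fun x hx => hle hx, ValuationSubring.ext _ _ fun z => ?_,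
    fun V hWV hV x hx => ?_⟩
  · constructor
    · rintro ⟨b, -, hb1, hbz⟩
      rw [← map_mul] at hbz
      have h1 := (V₁.valuation_le_one_iff _).mpr (h hbz)
      rw [map_mul, hb1, one_mul] at h1
      exact (V₁.valuation_le_one_iff _).mp h1
    · intro hz
      by_cases hzW : σ z ∈ W
      · exact hle hzW
      have hinv : σ z⁻¹ ∈ W := by
        rw [map_inv₀]; exact (W.mem_or_inv_mem _).resolve_left hzW
      refine ⟨z⁻¹, hinv, ?_, ?_⟩
      · refine le_antisymm ((V₁.valuation_le_one_iff _).mpr (h hinv)) ?_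
        rw [map_inv₀, one_le_inv₀ (zero_lt_iff.mpr ((Valuation.ne_zero_iff _).mpr fun h0 => hzW (by
          rw [h0, map_zero]; exact W.zero_mem)))]
        exact (V₁.valuation_le_one_iff _).mpr hz
      · rw [← map_mul, inv_mul_cancel₀ fun h0 => hzW (by rw [h0, map_zero]; exact W.zero_mem), map_one]
        exact W.one_mem
  · obtain ⟨b, -, hb1, hbx⟩ := hx
    have hb0 : b ≠ 0 := fun h0 => by rw [h0, map_zero] at hb1; exact zero_ne_one hb1
    have hbinv : b⁻¹ ∈ V₁ := (V₁.valuation_le_one_iff _).mp (by rw [map_inv₀, hb1, inv_one])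
    have hx' : x = σ b⁻¹ * (σ b * x) := by
      rw [← mul_assoc, ← map_mul, inv_mul_cancel₀ hb0, map_one, one_mul]
    rw [hx']
    exact V.mul_mem _ _ (hV hbinv) (hWV hbx)

end Groth.Agent.UILLib
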