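import Groth.Agent.UILLib.Attain
import Groth.Agent.RGFlatLib.Main
import Mathlib.RingTheory.Filtration

/-!
# Separation

A vector over a field which is divisible by all powers of an element of the maximal ideal of a
valuation ring with that field of fractions, up to denominators invertible at a point, vanishes at
the point.
-/

set_option autoImplicit false
set_option linter.style.haveILetI false
set_option linter.unusedSectionVars false
set_option maxHeartbeats 1000000
set_option backward.isDefEq.respectTransparency false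

universe u

open MvPolynomial TensorProduct Groth.Agent.GenFree Groth.Agent.FlatLocus Groth.Agent.RGFlatLib

noncomputable section

namespace Groth.Agent.UILLib

section Abstract

variable {R k : Type u} [CommRing R] [Field k] (φ : R →+* k) {a n : ℕ}

/-- The ideal of a point. -/
def ptI (pt : Fin n → k) : Ideal (MvPolynomial (Fin n) k) :=
  Ideal.span (Set.range fun i => X i - C (pt i))

theorem X_sub_C_mem_ptI (pt : Fin n → k) (i : Fin n) : X i - C (pt i) ∈ ptI pt :=
  Ideal.subset_span ⟨i, rfl⟩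

theorem eval_eq_zero_of_mem_ptI {pt : Fin n → k} {p : MvPolynomial (Fin n) k} (hp : p ∈ ptI pt) :
    eval pt p = 0 := by
  have h : ptI pt ≤ RingHom.ker (eval pt) := Ideal.span_le.mpr fun _ ⟨i, hi⟩ => by
    subst hi
    simp
  exact h hp

/-- A polynomial is its value plus a combination of the linear forms at a point. -/
theorem exists_expansion (pt : Fin n → R) (p : MvPolynomial (Fin n) R) :
    ∃ q : Fin n → MvPolynomial (Fin n) R, p = C (eval pt p) + ∑ i, q i * (X i - C (pt i)) := by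
  classical
  induction p using MvPolynomial.induction_on with
  | C r => exact ⟨0, by simp⟩
  | add p p' hp hp' =>
    obtain ⟨q, hq⟩ := hp
    obtain ⟨q', hq'⟩ := hp'
    refine ⟨q + q', ?_⟩
    simp only [Pi.add_apply, add_mul, Finset.sum_add_distrib, map_add]
    conv_lhs => rw [hq, hq']
    ring
  | mul_X p i hp =>
    obtain ⟨q, hq⟩ := hp
    refine ⟨fun l => C (pt i) * q l + if l = i then p else 0, ?_⟩
    simp only [add_mul, Finset.sum_add_distrib, ite_mul, zero_mul, Finset.sum_ite_eq', Finset.mem_univ,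
      if_true, map_mul, eval_X, mul_assoc, ← Finset.mul_sum]
    rw [show ∑ l, q l * (X l - C (pt l)) = p - C (eval pt p) from eq_sub_of_add_eq' hq.symm]
    ring

theorem map_sub_C_mem_ptI (pt : Fin n → R) (p : MvPolynomial (Fin n) R) :
    MvPolynomial.map φ (p - C (eval pt p)) ∈ ptI (φ ∘ pt) := by
  obtain ⟨q, hq⟩ := exists_expansion pt p
  rw [show p - C (eval pt p) = ∑ i, q i * (X i - C (pt i)) from sub_eq_of_eq_add' hq, map_sum]
  refine Ideal.sum_mem _ fun i _ => ?_
  rw [map_mul, map_sub, map_X, map_C]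
  exact Ideal.mul_mem_left _ _ (X_sub_C_mem_ptI (φ ∘ pt) i)

/-- Polynomials nonvanishing at the point are invertible modulo powers of its ideal. -/
theorem exists_inverse (pt : Fin n → R) {s : MvPolynomial (Fin n) R} (hs : IsUnit (eval pt s)) (j : ℕ) :
    ∃ t, MvPolynomial.map φ (t * s) - 1 ∈ ptI (φ ∘ pt) ^ j := by
  obtain ⟨u, hu⟩ := hs
  let r : MvPolynomial (Fin n) R := 1 - C (u⁻¹ : Rˣ).1 * s
  have hr : eval pt r = 0 := by
    simp [r, ← hu]
  refine ⟨(∑ i ∈ Finset.range j, r ^ i) * C (u⁻¹ : Rˣ).1, ?_⟩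
  rw [mul_assoc, show C (u⁻¹ : Rˣ).1 * s = 1 - r by simp [r], geom_sum_mul_neg, map_sub, map_one,
    map_pow, sub_sub_cancel_left]
  refine neg_mem (Ideal.pow_mem_pow ?_ _)
  have h := map_sub_C_mem_ptI φ pt r
  rwa [hr, map_zero, sub_zero] at h

variable {φ} {d : R}

theorem mem_range_pow_of_le {x : k} {B B' : ℕ} (h : B ≤ B') (hx : φ d ^ B * x ∈ φ.range) :
    φ d ^ B' * x ∈ φ.range := by
  obtain ⟨r, hr⟩ := hx
  refine ⟨d ^ (B' - B) * r, ?_⟩
  rw [map_mul, hr, map_pow, ← mul_assoc, ← pow_add, Nat.sub_add_cancel h]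

/-- Functionals vanishing on a power of the ideal of an integral point are bounded. -/
theorem exists_bound (hd : ∀ x : k, ∃ B : ℕ, φ d ^ B * x ∈ φ.range) (pt : Fin n → R) :
    ∀ (j : ℕ) (Φ : FreeMod k a n →ₗ[k] k),
      (∀ v ∈ (ptI (φ ∘ pt) ^ j • ⊤ : Submodule (MvPolynomial (Fin n) k) (FreeMod k a n)), Φ v = 0) →
      ∃ B : ℕ, ∀ (i : Fin a) (p : MvPolynomial (Fin n) R),
        φ d ^ B * Φ (Pi.single i (MvPolynomial.map φ p)) ∈ φ.range := by
  classical
  intro j
  induction j with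
  | zero =>
    intro Φ hΦ
    refine ⟨0, fun i p => ⟨0, ?_⟩⟩
    rw [hΦ _ (by rw [pow_zero, Ideal.one_eq_top, Submodule.top_smul]; exact Submodule.mem_top), map_zero, mul_zero]
  | succ j ih =>
    intro Φ hΦ
    let Φl : Fin n → FreeMod k a n →ₗ[k] k := fun l =>
      Φ ∘ₗ (LinearMap.lsmul (MvPolynomial (Fin n) k) (FreeMod k a n) (X l - C (φ (pt l)))).restrictScalars k
    have hl : ∀ l, ∃ B : ℕ, ∀ (i : Fin a) (p : MvPolynomial (Fin n) R),
        φ d ^ B * Φl l (Pi.single i (MvPolynomial.map φ p)) ∈ φ.range := fun l => by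
      refine ih (Φl l) fun v hv => hΦ _ ?_
      rw [pow_succ', ← smul_eq_mul, smul_assoc]
      exact Submodule.smul_mem_smul (X_sub_C_mem_ptI (φ ∘ pt) l) hv
    choose Bl hBl using hl
    choose b hb using fun i : Fin a => hd (Φ (Pi.single i 1))
    refine ⟨Finset.univ.sup Bl + Finset.univ.sup b, fun i p => ?_⟩
    obtain ⟨q, hq⟩ := exists_expansion pt p
    have hval : Pi.single i (MvPolynomial.map φ p) = φ (eval pt p) • (Pi.single i 1 : FreeMod k a n) +
        ∑ l, (X l - C (φ (pt l))) • (Pi.single i (MvPolynomial.map φ (q l)) : FreeMod k a n) := by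
      conv_lhs => rw [hq]
      rw [map_add, map_sum, map_C, Pi.single_add, ← Pi.single_smul, smul_eq_C_mul, mul_one]
      congr 1
      rw [show (Pi.single i (∑ l, MvPolynomial.map φ (q l * (X l - C (pt l)))) : FreeMod k a n) =
        ∑ l, Pi.single i (MvPolynomial.map φ (q l * (X l - C (pt l)))) from map_sum (AddMonoidHom.single _ i) _ _]
      refine Finset.sum_congr rfl fun l _ => ?_
      rw [← Pi.single_smul, map_mul, map_sub, map_X, map_C, smul_eq_mul, mul_comm]
    rw [hval, map_add, map_smul, map_sum, mul_add, Finset.mul_sum, smul_eq_mul, mul_left_comm]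
    refine Subring.add_mem _ (Subring.mul_mem _ ⟨_, rfl⟩
      (mem_range_pow_of_le (le_add_left (Finset.le_sup (Finset.mem_univ i))) (hb i)))
      (Subring.sum_mem _ fun l _ =>
        mem_range_pow_of_le (le_add_right (Finset.le_sup (Finset.mem_univ l))) (hBl l i (q l)))

/-- A polynomial becomes integral after multiplying by a power. -/
theorem exists_pow_mul_mem (hd : ∀ x : k, ∃ B : ℕ, φ d ^ B * x ∈ φ.range) (p : MvPolynomial (Fin n) k) :
    ∃ (B : ℕ) (r : MvPolynomial (Fin n) R), C (φ d ^ B) * p = MvPolynomial.map φ r := by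
  induction p using MvPolynomial.induction_on' with
  | monomial e b =>
    obtain ⟨B, r, hr⟩ := hd b
    exact ⟨B, monomial e r, by rw [C_mul_monomial, map_monomial, hr]⟩
  | add p q hp hq =>
    obtain ⟨B, r, hr⟩ := hp
    obtain ⟨B', r', hr'⟩ := hq
    refine ⟨B + B', C (d ^ B') * r + C (d ^ B) * r', ?_⟩
    rw [map_add, map_mul, map_mul, map_C, map_C, ← hr, ← hr', map_pow φ, map_pow φ, pow_add, C_mul]
    ring

/-- A vector divisible by all powers of an element vanishes near the point. -/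
theorem exists_smul_mem_of_divisible (hd : ∀ x : k, ∃ B : ℕ, φ d ^ B * x ∈ φ.range)
    (hd1 : ∀ r, φ (d * r) ≠ 1) (pt : Fin n → R)
    (N' : Submodule (MvPolynomial (Fin n) k) (FreeMod k a n)) (g : FreeMod k a n)
    (s₀ : MvPolynomial (Fin n) k)
    (h : ∀ N : ℕ, ∃ (s : MvPolynomial (Fin n) R) (v : FreeMod R a n), IsUnit (eval pt s) ∧
      MvPolynomial.map φ s • g - φ d ^ N • s₀ • (fun i => MvPolynomial.map φ (v i) : FreeMod k a n) ∈ N') :
    ∃ p : MvPolynomial (Fin n) k, eval (φ ∘ pt) p ≠ 0 ∧ p • g ∈ N' := by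
  classical
  let M := ptI (φ ∘ pt)
  have key : ∀ j : ℕ, g ∈ N' ⊔ (M ^ j • ⊤ : Submodule (MvPolynomial (Fin n) k) (FreeMod k a n)) := by
    intro j
    by_contra hg
    let Z := (N' ⊔ (M ^ j • ⊤ : Submodule (MvPolynomial (Fin n) k) (FreeMod k a n))).restrictScalars k
    obtain ⟨Ψ, hΨ⟩ : ∃ Ψ : (FreeMod k a n ⧸ Z) →ₗ[k] k, Ψ (Z.mkQ g) = 1 :=
      Module.Projective.exists_dual_eq_one k (fun h0 => hg ((Submodule.Quotient.mk_eq_zero Z).mp h0))
    let Φ := Ψ ∘ₗ Z.mkQ
    have hZ : ∀ v ∈ Z, Φ v = 0 := fun v hv => by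
      show Ψ (Z.mkQ v) = 0
      rw [Submodule.mkQ_apply, (Submodule.Quotient.mk_eq_zero Z).mpr hv, map_zero]
    obtain ⟨B, hB⟩ := exists_bound hd pt j Φ fun v hv => hZ v (Submodule.mem_sup_right hv)
    obtain ⟨K₀, r₀, hr₀⟩ := exists_pow_mul_mem hd s₀
    obtain ⟨s, v, hs, hsv⟩ := h (K₀ + (B + 1))
    obtain ⟨t, ht⟩ := exists_inverse φ pt hs j
    let w : FreeMod k a n := fun i => MvPolynomial.map φ (v i)
    have h1 : g - φ d ^ (B + 1) • MvPolynomial.map φ (t * r₀) • w ∈ Z := by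
      have e : g - φ d ^ (B + 1) • MvPolynomial.map φ (t * r₀) • w =
          MvPolynomial.map φ t • (MvPolynomial.map φ s • g - φ d ^ (K₀ + (B + 1)) • s₀ • w) -
            (MvPolynomial.map φ (t * s) - 1) • g := by
        rw [map_mul, map_mul, ← hr₀, smul_sub, sub_smul, one_smul, smul_smul (MvPolynomial.map φ t) (MvPolynomial.map φ s),
          smul_comm (MvPolynomial.map φ t) (φ d ^ (K₀ + (B + 1))), smul_smul (MvPolynomial.map φ t) s₀,
          show MvPolynomial.map φ t * (C (φ d ^ K₀) * s₀) = C (φ d ^ K₀) * (MvPolynomial.map φ t * s₀) by ring,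
          ← smul_smul (C (φ d ^ K₀)), ← MvPolynomial.algebraMap_eq, algebraMap_smul, smul_smul,
          ← pow_add, add_comm (B + 1)]
        abel
      rw [e]
      exact sub_mem (Submodule.mem_sup_left (Submodule.smul_mem _ _ hsv))
        (Submodule.mem_sup_right (Submodule.smul_mem_smul ht Submodule.mem_top))
    have h2 : Φ g = φ d ^ (B + 1) * Φ (MvPolynomial.map φ (t * r₀) • w) := by
      have := hZ _ h1
      rwa [map_sub, map_smul, sub_eq_zero, smul_eq_mul] at this
    have h3 : φ d ^ B * Φ (MvPolynomial.map φ (t * r₀) • w) ∈ φ.range := by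
      rw [← Finset.univ_sum_single (MvPolynomial.map φ (t * r₀) • w), map_sum, Finset.mul_sum]
      refine Subring.sum_mem _ fun i _ => ?_
      rw [Pi.smul_apply, smul_eq_mul, ← map_mul]
      exact hB i _
    obtain ⟨r, hr⟩ := h3
    refine hd1 r ?_
    rw [map_mul, hr, ← mul_assoc, ← pow_succ', ← h2]
    exact hΨ
  let N'' := N'
  have hy : N'.mkQ g ∈ (⨅ i : ℕ, M ^ i • ⊤ : Submodule (MvPolynomial (Fin n) k) (FreeMod k a n ⧸ N')) := by
    rw [Submodule.mem_iInf]
    intro i
    obtain ⟨x, hx, y, hy, hxy⟩ := Submodule.mem_sup.mp (key i)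
    have h' := Submodule.mem_map_of_mem (f := N'.mkQ) hy
    rw [Submodule.map_smul'', Submodule.map_top, Submodule.range_mkQ] at h'
    rwa [← hxy, map_add, Submodule.mkQ_apply _ x, (Submodule.Quotient.mk_eq_zero N').mpr hx, zero_add]
  obtain ⟨r, hr⟩ := (Ideal.mem_iInf_smul_pow_eq_bot_iff M _).mp hy
  refine ⟨1 - r, ?_, ?_⟩
  · rw [map_sub, map_one, eval_eq_zero_of_mem_ptI r.2, sub_zero]
    exact one_ne_zero
  · rw [← Submodule.Quotient.mk_eq_zero, ← Submodule.mkQ_apply, map_smul, sub_smul, one_smul, hr, sub_self]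

end Abstract

variable {A : Type u} [CommRing A] {a n : ℕ} {T : Submonoid (MvPolynomial (Fin n) A)}
  {κ : Type u} [Field κ] [Algebra A κ] (P : Prob κ a n)

/-- The map of valuation rings at a point. -/
def toV (m : Mem T κ) {V₀ : ValuationSubring P.K} (hm : V₀ ≤ m.comap P.ι) : V₀ →+* m.V :=
  ((m.σ P.ι).comp V₀.subtype).codRestrict m.V.toSubring fun x => hm x.2

/-- The residue field at a point, over the valuation ring. -/
abbrev resAlg (m : Mem T κ) {V₀ : ValuationSubring P.K} (hm : V₀ ≤ m.comap P.ι) :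
    Algebra V₀ (IsLocalRing.ResidueField m.V) :=
  ((IsLocalRing.residue m.V).comp (toV P m hm)).toAlgebra

/-- The image of the point in the residue field. -/
abbrev resPt (m : Mem T κ) : Fin n → IsLocalRing.ResidueField m.V :=
  fun i => IsLocalRing.residue m.V ⟨m.pt i, m.pt_mem i⟩

/-- Vanishing of the reduction near the point gives divisibility by a vector vanishing there. -/
theorem divP_of_reduction (m : Mem T κ) {V₀ : ValuationSubring P.K} (hm : m.comap P.ι = V₀) {c : P.K}
    (s₀ : MvPolynomial (Fin n) V₀) (hu : m.ev P.ι (MvPolynomial.map V₀.subtype s₀) ∉ m.V.nonunits)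
    (g₀ : FreeMod V₀ a n) (heq : MvPolynomial.map V₀.subtype s₀ • P.f - c • phi P.K g₀ ∈ P.U)
    (p : MvPolynomial (Fin n) (IsLocalRing.ResidueField m.V)) (hp0 : eval (resPt m) p ≠ 0)
    (hp : letI := resAlg P m hm.ge
      p • phi (IsLocalRing.ResidueField m.V) g₀ ∈ locN (IsLocalRing.ResidueField m.V) (pull V₀ P.U)) :
    P.DivP m c := by
  classical
  letI := resAlg P m hm.ge
  letI : Algebra (IsLocalRing.ResidueField V₀) (IsLocalRing.ResidueField m.V) := (resMap P m hm).toAlgebra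
  haveI : IsScalarTower V₀ (IsLocalRing.ResidueField V₀) (IsLocalRing.ResidueField m.V) :=
    .of_algebraMap_eq fun _ => rfl
  rw [← locN_locN (IsLocalRing.ResidueField V₀) (pull V₀ P.U),
    ← phi_phi (A := IsLocalRing.ResidueField V₀) (R := IsLocalRing.ResidueField m.V) g₀] at hp
  obtain ⟨c₀, hc₀, hne⟩ := exists_smul_mem_of_field _ _ p _ hp hp0
  obtain ⟨s₂, rfl⟩ := MvPolynomial.map_surjective (algebraMap V₀ (IsLocalRing.ResidueField V₀))
    IsLocalRing.residue_surjective c₀
  rw [← phi_smul] at hc₀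
  have h2 := mem_sup_cf_of_phi IsLocalRing.residue_surjective (pull V₀ P.U) hc₀
  rw [show RingHom.ker (algebraMap V₀ (IsLocalRing.ResidueField V₀)) = IsLocalRing.maximalIdeal V₀ from
    IsLocalRing.ker_residue] at h2
  obtain ⟨x, hx, w, hw, hxw⟩ := Submodule.mem_sup.mp h2
  have hs₂ : m.ev P.ι (MvPolynomial.map V₀.subtype s₂) ∉ m.V.nonunits := fun h => by
    rw [← mem_ptIdeal P m hm, ptIdeal, RingHom.mem_ker] at h
    exact hne h
  refine ⟨MvPolynomial.map V₀.subtype s₂ * MvPolynomial.map V₀.subtype s₀, phi P.K w,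
    by rw [hm]; exact (polyIn V₀).mul_mem ⟨_, rfl⟩ ⟨_, rfl⟩, ?_, ?_, ?_⟩
  · rw [map_mul]
    exact notMem_nonunits_mul (m.ev_mem P.ι (by rw [hm]; exact ⟨_, rfl⟩))
      (m.ev_mem P.ι (by rw [hm]; exact ⟨_, rfl⟩)) hs₂ hu
  · rw [hm]; exact vecNon_phi hw
  · have h3 := add_mem (P.U.smul_mem (MvPolynomial.map V₀.subtype s₂) heq)
      (Submodule.smul_of_tower_mem P.U c (mem_pull.mp hx))
    have e : phi P.K x = MvPolynomial.map V₀.subtype s₂ • phi P.K g₀ - phi P.K w := by
      rw [eq_sub_iff_add_eq, ← map_add, hxw, phi_smul]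
      rfl
    rw [e, smul_sub, smul_sub, smul_comm _ c (phi P.K g₀), ← mul_smul, sub_add_sub_cancel] at h3
    exact h3

/-- Separation: divisibility by all powers over a refinement gives vanishing. -/
theorem divP_of_divisible (mh : Mem T κ) {V₁ V₀ : ValuationSubring P.K} (hmh : mh.comap P.ι = V₁)
    (V' : ValuationSubring mh.L) (h : mh.V ≤ V') (hm' : (mh.coarsen V' h).comap P.ι = V₀)
    {c d : P.K} (hc : c ≠ 0) (hd : d ∈ V₁.nonunits) (hd0 : d ≠ 0)
    (hV' : ∀ x ∈ V', ∃ k : ℕ, mh.σ P.ι d ^ k * x ∈ mh.V)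
    (hall : ∀ j : ℕ, P.Div mh (c * d ^ j)) (hdiv : P.Div (mh.coarsen V' h) c) :
    P.DivP (mh.coarsen V' h) c := by
  classical
  let m' := mh.coarsen V' h
  have hV : V₁ ≤ V₀ := by
    rw [← hmh, ← hm']
    exact fun x hx => h hx
  obtain ⟨s₀, g₀, hs₀, hu₀, hg₀, heq₀⟩ := hdiv
  rw [hm'] at hs₀ hg₀
  obtain ⟨s₀, rfl⟩ := hs₀
  obtain ⟨g₀, rfl⟩ := hg₀.exists_phi
  let k' := IsLocalRing.ResidueField V'
  letI : Algebra V₀ k' := resAlg P m' hm'.ge
  let φ : mh.V →+* k' := (IsLocalRing.residue V').comp (ValuationSubring.inclusion mh.V V' h)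
  let dh : mh.V := ⟨mh.σ P.ι d, by
    have : d ∈ mh.comap P.ι := by rw [hmh]; exact V₁.nonunits_subset hd
    exact this⟩
  let pth : Fin n → mh.V := fun i => ⟨mh.pt i, mh.pt_mem i⟩
  have hdh : dh.1 ∈ mh.V.nonunits := by
    rw [← mh.mem_nonunits_comap, hmh]; exact hd
  have hdk : ∀ x : k', ∃ B : ℕ, φ dh ^ B * x ∈ φ.range := fun x => by
    obtain ⟨⟨x, hx⟩, rfl⟩ := IsLocalRing.residue_surjective x
    obtain ⟨B, hB⟩ := hV' x hx
    refine ⟨B, ⟨_, hB⟩, ?_⟩
    show IsLocalRing.residue V' _ =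
      IsLocalRing.residue V' (ValuationSubring.inclusion mh.V V' h dh) ^ B * IsLocalRing.residue V' ⟨x, hx⟩
    have e : ValuationSubring.inclusion mh.V V' h ⟨_, hB⟩ =
        (ValuationSubring.inclusion mh.V V' h dh) ^ B * (⟨x, hx⟩ : V') := Subtype.ext rfl
    exact (congrArg (IsLocalRing.residue V') e).trans ((map_mul _ _ _).trans (congrArg₂ _ (map_pow _ _ _) rfl))
  have hd1 : ∀ r, φ (dh * r) ≠ 1 := fun r hr => by
    have h1 : φ (dh * r - 1) = 0 := by rw [map_sub, hr, map_one, sub_self]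
    have h2 : (dh * r - 1 : mh.V).1 ∈ mh.V.nonunits :=
      ValuationSubring.nonunits_le_nonunits.mpr h
        (ValuationSubring.coe_mem_nonunits_iff.mpr (Ideal.Quotient.eq_zero_iff_mem.mp h1))
    have h3 : (dh * r : mh.V) ∈ IsLocalRing.maximalIdeal mh.V :=
      Ideal.mul_mem_right _ _ (ValuationSubring.coe_mem_nonunits_iff.mp hdh)
    have h4 := sub_mem h3 (ValuationSubring.coe_mem_nonunits_iff.mp h2)
    rw [sub_sub_cancel] at h4
    exact (IsLocalRing.maximalIdeal.isMaximal mh.V).ne_top ((Ideal.eq_top_iff_one _).mpr h4)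
  obtain ⟨p, hp0, hp⟩ := exists_smul_mem_of_divisible hdk hd1 pth
    (locN k' (pull V₀ P.U)) (phi k' g₀) (MvPolynomial.map (algebraMap V₀ k') s₀) fun N => by
      obtain ⟨sN, gN, hsN, huN, hgN, heqN⟩ := hall N
      rw [hmh] at hsN hgN
      obtain ⟨sN, rfl⟩ := hsN
      obtain ⟨gN, rfl⟩ := hgN.exists_phi
      let i₁ : V₁ →+* V₀ := ValuationSubring.inclusion V₁ V₀ hV
      let g₁ : FreeMod V₀ a n := fun i => MvPolynomial.map i₁ (gN i)
      let ρ : V₁ →+* mh.V := toV P mh hmh.ge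
      refine ⟨MvPolynomial.map ρ sN, fun i => MvPolynomial.map ρ (gN i), ?_, ?_⟩
      · by_contra hnu
        apply huN
        have e : (eval pth (MvPolynomial.map ρ sN) : mh.L) = mh.ev P.ι (MvPolynomial.map V₁.subtype sN) := by
          show mh.V.subtype (eval pth (MvPolynomial.map ρ sN)) = eval₂ (mh.σ P.ι) mh.pt _
          rw [eval₂_map, eval_map, eval₂_comp_left]
          rfl
        rw [← e]
        exact ValuationSubring.coe_mem_nonunits_iff.mpr ((IsLocalRing.mem_maximalIdeal _).mpr hnu)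
      have hg₁ : phi P.K g₁ = phi P.K gN := funext fun i => by
        simp only [phi_apply, g₁, MvPolynomial.map_map]
        rfl
      have hmapi : ∀ q : MvPolynomial (Fin n) V₁, MvPolynomial.map (algebraMap V₀ P.K) (MvPolynomial.map i₁ q) =
          MvPolynomial.map V₁.subtype q := fun q => by
        rw [MvPolynomial.map_map]; rfl
      have hdV : d ∈ V₀ := hV (V₁.nonunits_subset hd)
      have hz : MvPolynomial.map i₁ sN • g₀ - (⟨d, hdV⟩ : V₀) ^ N • s₀ • g₁ ∈ pull V₀ P.U := by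
        rw [mem_pull, map_sub, phi_smul, hmapi, LinearMap.map_smul, phi_smul, hg₁,
          ← algebraMap_smul P.K ((⟨d, hdV⟩ : V₀) ^ N), map_pow]
        have h1 := scaled_sub (F := FreeMod P.K a n) hc heqN heq₀
        rw [← mul_assoc, inv_mul_cancel₀ hc, one_mul] at h1
        exact h1
      have hz' := phi_mem k' _ hz
      rw [map_sub, phi_smul, MvPolynomial.map_map, LinearMap.map_smul, phi_smul, ← algebraMap_smul k' ((⟨d, hdV⟩ : V₀) ^ N),
        map_pow] at hz'
      rw [MvPolynomial.map_map]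
      convert hz' using 1
      refine congrArg₂ _ rfl (congrArg₂ _ rfl (congrArg _ (funext fun i => ?_)))
      rw [phi_apply, MvPolynomial.map_map, MvPolynomial.map_map]
      rfl
  exact divP_of_reduction P m' hm' s₀ hu₀ g₀ heq₀ p hp0 hp

end Groth.Agent.UILLib
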